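import Groth.Agent.Lib.RamP1.Four45.Solve
import Groth.Agent.S13921

/-!
# The generic count for four points in degree below the characteristic
-/

set_option autoImplicit false

universe u

open Polynomial W4c1limliniiii

noncomputable section

namespace Groth.Agent.Lib.RamP1.Four45

variable {k : Type u} [Field k]

/-! ### The continuant has simple roots for general `lam` -/

namespace Par

variable {σ : Par} {p : ℕ} [CharP k p]

theorem exists_finite_bad (hσ : σ.Ok) (hp : p = 0 ∨ σ.d < p) :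
    ∃ Bad : Finset k, ∀ lam, lam ∉ Bad → (σ.pi (C lam) (X : k[X]) σ.N).Separable := by
  classical
  have hN1 := one_le_N hσ
  have hNa : σ.N ≤ σ.a := min_le_left _ _
  have hNm : σ.N ≤ σ.m + 1 := min_le_right _ _
  have had := hσ.had
  set Pu : k[X][X] := σ.pi (C (X : k[X])) X σ.N with hPu
  have hmap : ∀ lam : k, Pu.map (evalRingHom lam) = σ.pi (C lam) X σ.N := by
    intro lam
    have h := map_pi σ (C (X : k[X])) (mapRingHom (evalRingHom lam)) X σ.N
    simp only [coe_mapRingHom, map_C, map_X, coe_evalRingHom, eval_X] at h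
    exact h
  have hsep : ∀ lam : k, (σ.pi (C lam) (X : k[X]) σ.N).Separable ↔
      (resultant Pu (derivative Pu) σ.N (σ.N - 1)).eval lam ≠ 0 := by
    intro lam
    obtain ⟨hmon, hdeg⟩ := natDegree_pi_X_aux σ lam σ.N
    have hd' : (derivative (σ.pi (C lam) (X : k[X]) σ.N)).natDegree = σ.N - 1 := by
      refine natDegree_eq_of_le_of_coeff_ne_zero ((natDegree_derivative_le _).trans (by rw [hdeg])) ?_
      rw [coeff_derivative, show σ.N - 1 + 1 = σ.N by omega]
      nth_rewrite 2 [← hdeg]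
      rw [hmon.coeff_natDegree, one_mul]
      intro h
      have := cast_inj_small (σ := σ) hp (i := σ.N) (j := 0) (by omega) (by omega)
        (by rw [show σ.N = σ.N - 1 + 1 by omega]; push_cast; exact h)
      omega
    rw [← coe_evalRingHom, ← resultant_map_map, ← derivative_map, hmap, Polynomial.Separable]
    have hr : (σ.pi (C lam) (X : k[X]) σ.N).resultant (derivative (σ.pi (C lam) (X : k[X]) σ.N)) σ.N (σ.N - 1) =
        (σ.pi (C lam) (X : k[X]) σ.N).resultant (derivative (σ.pi (C lam) (X : k[X]) σ.N)) := by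
      rw [hdeg, hd']
    rw [hr]
    rw [ne_eq, resultant_eq_zero_iff, not_and_not_right]
    exact ⟨fun h _ => h, fun h => h (Or.inl hmon.ne_zero)⟩
  have h0 : (resultant Pu (derivative Pu) σ.N (σ.N - 1)).eval 0 ≠ 0 := by
    rw [← hsep, pi_zero_lam_C]
    refine separable_prod_X_sub_C_iff'.2 fun i hi j hj h => ?_
    rw [Finset.mem_range] at hi hj
    have h2 : ((i : k) - j) * ((i : k) + j + 1 - σ.a - σ.b) = 0 := by
      simp [cN, T] at h; linear_combination h
    rcases mul_eq_zero.1 h2 with h2 | h2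
    · exact cast_inj_small (σ := σ) hp (by omega) (by omega) (sub_eq_zero.1 h2)
    · by_contra hne
      have hab := hσ.hab
      have := hσ.hmb
      have hcast : (((σ.a + σ.b - 1 - (i + j) : ℕ)) : k) = ((0 : ℕ) : k) := by
        rw [Nat.cast_sub (by omega), Nat.cast_sub (by omega)]
        push_cast
        linear_combination -h2
      have := cast_inj_small (σ := σ) hp (by omega) (by omega) hcast
      omega
  refine ⟨(resultant Pu (derivative Pu) σ.N (σ.N - 1)).roots.toFinset, fun lam hlam => (hsep lam).2 ?_⟩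
  intro h
  exact hlam (Multiset.mem_toFinset.2 ((mem_roots fun h1 => h0 (by rw [h1, eval_zero])).2 h))
where
  pi_zero_lam_C {σ : Par} : σ.pi (C (0 : k)) (X : k[X]) σ.N =
      ∏ j ∈ Finset.range σ.N, (X - C (σ.cN (0 : k) j)) := by
    rw [map_zero, pi_zero_lam]
    exact Finset.prod_congr rfl fun j _ => by simp [cN, T]

end Par

/-! ### Moving a point to infinity -/

/-- `s ↦ reflect d (s (X + b))`. -/
def inv (d : ℕ) (b : k) : k[X] ≃ₗ[k] k[X] where
  toFun s := reflect d (s.comp (X + C b))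
  invFun s := (reflect d s).comp (X - C b)
  left_inv s := by simp [comp_assoc]
  right_inv s := by simp [comp_assoc]
  map_add' s t := by simp [reflect_add]
  map_smul' c s := by simp [smul_eq_C_mul, reflect_C_mul]

/-- `s ↦ s (α X + β)`. -/
def aff (α β : k) (hα : α ≠ 0) : k[X] ≃ₗ[k] k[X] where
  toFun s := s.comp (C α * X + C β)
  invFun s := s.comp (C α⁻¹ * (X - C β))
  left_inv s := by
    simp only
    rw [comp_assoc, show (C α * X + C β : k[X]).comp (C α⁻¹ * (X - C β)) = X by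
      simp [← mul_assoc, ← map_mul, mul_inv_cancel₀ hα], comp_X]
  right_inv s := by
    simp only
    rw [comp_assoc, show (C α⁻¹ * (X - C β) : k[X]).comp (C α * X + C β) = X by
      simp [← mul_assoc, ← map_mul, inv_mul_cancel₀ hα], comp_X]
  map_add' s t := by simp
  map_smul' c s := by simp [smul_eq_C_mul]

theorem natDegree_reflect_le' {d : ℕ} {s : k[X]} (hs : s.natDegree ≤ d) : (reflect d s).natDegree ≤ d :=
  natDegree_reflect_le.trans (max_le le_rfl hs)

theorem natDegree_comp_le' (s q : k[X]) (hq : q.natDegree ≤ 1) : (s.comp q).natDegree ≤ s.natDegree :=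
  natDegree_comp_le.trans (by simpa using Nat.mul_le_mul_left s.natDegree hq)

theorem reflect_lin (r : k) : reflect 1 (X - C r) = 1 - C r * X := by
  rw [reflect_sub, reflect_one_X, reflect_C, pow_one]

theorem dvd_reflect {d e : ℕ} {r : k} (hr : r ≠ 0) {s : k[X]} (hs : s.natDegree ≤ d)
    (h : (X - C r) ^ e ∣ s) : (X - C r⁻¹) ^ e ∣ reflect d s := by
  rcases eq_or_ne s 0 with rfl | h0
  · simp
  obtain ⟨q, rfl⟩ := h
  have hq : q ≠ 0 := right_ne_zero_of_mul h0
  rw [natDegree_mul (pow_ne_zero _ (X_sub_C_ne_zero r)) hq, natDegree_pow, natDegree_X_sub_C, mul_one] at hs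
  have key : ∀ j, reflect j ((X - C r) ^ j) = (1 - C r * X) ^ j := by
    intro j
    induction j with
    | zero => simp [reflect_one]
    | succ j ih =>
      rw [pow_succ, reflect_mul _ _ (by simp) (by simp), ih, reflect_lin, pow_succ]
  rw [show d = e + (d - e) by omega, reflect_mul _ _ (by simp) (by omega), key]
  refine dvd_mul_of_dvd_left (pow_dvd_pow_of_dvd ⟨C (-r), ?_⟩ e) _
  rw [map_neg, sub_mul, mul_neg, mul_neg, ← map_mul, inv_mul_cancel₀ hr, map_one]
  ring

theorem natDegree_reflect_of_pow_dvd {d e : ℕ} {s : k[X]} (hs : s.natDegree ≤ d) (h : X ^ e ∣ s) :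
    (reflect d s).natDegree ≤ d - e := by
  refine natDegree_le_iff_coeff_eq_zero.2 fun j hj => ?_
  rw [coeff_reflect]
  rcases le_or_gt j d with hjd | hjd
  · rw [revAt_le hjd]; exact X_pow_dvd_iff.1 h _ (by omega)
  · rw [revAt_eq_self_of_lt hjd]; exact coeff_eq_zero_of_natDegree_lt (by omega)

theorem pow_dvd_reflect {d e : ℕ} {s : k[X]} (he : e ≤ d) (hs : s.natDegree ≤ d - e) :
    X ^ e ∣ reflect d s :=
  X_pow_dvd_iff.2 fun j hj => by
    rw [coeff_reflect, revAt_le (by omega : j ≤ d)]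
    exact coeff_eq_zero_of_natDegree_lt (by omega)

theorem dvd_comp {r : k} {e : ℕ} {s q : k[X]} (h : (X - C r) ^ e ∣ s) :
    (q - C r) ^ e ∣ s.comp q := by
  obtain ⟨z, rfl⟩ := h
  exact ⟨z.comp q, by simp⟩

section T

variable (d : ℕ) (b α β : k) (hα : α ≠ 0)

/-- The composite change of coordinate. -/
def tr : k[X] ≃ₗ[k] k[X] := (inv d b).trans (aff α β hα)

variable {d b α β} {hα}

theorem tr_apply (s : k[X]) : tr d b α β hα s = (reflect d (s.comp (X + C b))).comp (C α * X + C β) := rfl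

theorem tr_symm_apply (s : k[X]) :
    (tr d b α β hα).symm s = (reflect d (s.comp (C α⁻¹ * (X - C β)))).comp (X - C b) := rfl

theorem natDegree_tr {s : k[X]} (hs : s.natDegree ≤ d) : (tr d b α β hα s).natDegree ≤ d :=
  (natDegree_comp_le' _ _ natDegree_linear_le).trans
    (natDegree_reflect_le' ((natDegree_comp_le' _ _ (natDegree_X_add_C b).le).trans hs))

theorem natDegree_affInv (s : k[X]) : (s.comp (C α⁻¹ * (X - C β))).natDegree ≤ s.natDegree :=
  natDegree_comp_le' _ _ ((natDegree_C_mul_le _ _).trans (natDegree_X_sub_C_le β))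

theorem natDegree_tr_symm {s : k[X]} (hs : s.natDegree ≤ d) : ((tr d b α β hα).symm s).natDegree ≤ d :=
  (natDegree_comp_le' _ _ (natDegree_X_sub_C_le b)).trans
    (natDegree_reflect_le' ((natDegree_affInv s).trans hs))

theorem dvd_tr {s : k[X]} (hs : s.natDegree ≤ d) {a u : k} (hu : α * u + β = (a - b)⁻¹) (hab : a ≠ b)
    {e : ℕ} (h : (X - C a) ^ e ∣ s) : (X - C u) ^ e ∣ tr d b α β hα s := by
  have h1 : (X - C (a - b)) ^ e ∣ s.comp (X + C b) := by
    have := dvd_comp (q := X + C b) h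
    rwa [map_sub, ← sub_add, sub_add_eq_add_sub]
  have h2 := dvd_comp (q := C α * X + C β)
    (dvd_reflect (sub_ne_zero.2 hab) ((natDegree_comp_le' _ _ (natDegree_X_add_C b).le).trans hs) h1)
  refine dvd_trans ?_ h2
  refine pow_dvd_pow_of_dvd ⟨C α, ?_⟩ e
  rw [← hu, map_add, map_mul]; ring

theorem natDegree_tr_of_dvd {s : k[X]} (hs : s.natDegree ≤ d) {e : ℕ} (h : (X - C b) ^ e ∣ s) :
    (tr d b α β hα s).natDegree ≤ d - e := by
  refine (natDegree_comp_le' _ _ natDegree_linear_le).trans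
    (natDegree_reflect_of_pow_dvd ((natDegree_comp_le' _ _ (natDegree_X_add_C b).le).trans hs) ?_)
  have := dvd_comp (q := X + C b) h
  rwa [add_sub_cancel_right] at this

theorem dvd_tr_symm {s : k[X]} (hs : s.natDegree ≤ d) {a u : k} (hu : α * u + β = (a - b)⁻¹) (hab : a ≠ b)
    (hα' : α ≠ 0) {e : ℕ} (h : (X - C u) ^ e ∣ s) : (X - C a) ^ e ∣ (tr d b α β hα).symm s := by
  have h1 : (X - C (α * u + β)) ^ e ∣ s.comp (C α⁻¹ * (X - C β)) := by
    refine dvd_trans (pow_dvd_pow_of_dvd ⟨C α⁻¹, ?_⟩ e) (dvd_comp (q := C α⁻¹ * (X - C β)) h)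
    have : C α⁻¹ * C α = (1 : k[X]) := by rw [← map_mul, inv_mul_cancel₀ hα', map_one]
    rw [map_add, map_mul]
    linear_combination C u * this
  rw [hu] at h1
  have h2 := dvd_comp (q := X - C b)
    (dvd_reflect (inv_ne_zero (sub_ne_zero.2 hab)) ((natDegree_affInv s).trans hs) h1)
  rw [inv_inv, map_sub, sub_sub, add_comm, sub_add_cancel] at h2
  exact h2

theorem pow_dvd_tr_symm {s : k[X]} {e : ℕ} (he : e ≤ d) (hs : s.natDegree ≤ d - e) :
    (X - C b) ^ e ∣ (tr d b α β hα).symm s := by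
  have h := pow_dvd_reflect he ((natDegree_affInv (α := α) (β := β) s).trans hs)
  rw [← sub_zero (X : k[X]), ← map_zero (C : k →+* k[X])] at h
  have := dvd_comp (q := X - C b) h
  simpa [tr_symm_apply] using this

theorem tr_eval_pole {s : k[X]} (hs : s.natDegree = d) (hs0 : s ≠ 0) {r : k} (hr : α * r + β = 0) :
    (tr d b α β hα s).eval r ≠ 0 := by
  rw [tr_apply, eval_comp]
  simp only [eval_add, eval_mul, eval_C, eval_X, hr]
  rw [← coeff_zero_eq_eval_zero, coeff_reflect, revAt_le (Nat.zero_le _), Nat.sub_zero, ← hs,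
    ← mul_one s.natDegree, ← natDegree_X_add_C b, ← natDegree_comp, coeff_natDegree]
  refine leadingCoeff_ne_zero.2 fun h => hs0 ?_
  have := congrArg (fun q => q.comp (X - C b)) h
  simpa [comp_assoc] using this

end T

/-! ### Permuting the points -/

theorem hasGenericCount_reindex {n : ℕ} {d N : ℕ} {e : Fin n → ℕ} (π : Equiv.Perm (Fin n))
    (h : HasGenericCount (k := k) d (e ∘ π) N) : HasGenericCount (k := k) d e N := by
  obtain ⟨Φ, hΦ, h⟩ := h
  refine ⟨MvPolynomial.rename π Φ, fun h0 => hΦ ?_, fun P hP => ?_⟩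
  · exact MvPolynomial.rename_injective _ π.injective (h0.trans (map_zero _).symm)
  rw [MvPolynomial.eval_rename] at hP
  have heq : ramMaps d (P ∘ π) (e ∘ π) = ramMaps d P e := by
    ext V
    simp only [ramMaps, Set.mem_setOf_eq, Function.comp_apply]
    exact and_congr_right fun _ => and_congr_right fun _ =>
      ⟨fun H i => by simpa using H (π.symm i), fun H i => H (π i)⟩
  rw [← heq]
  exact h _ hP

/-! ### The count -/

theorem count_sorted [IsAlgClosed k] (p : ℕ) [CharP k p] {d : ℕ} {e : Fin 4 → ℕ}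
    (h2 : ∀ i, 2 ≤ e i) (hed : ∀ i, e i ≤ d) (hsum : e 0 + e 1 + e 2 + e 3 = 2 * d + 2)
    (h01 : e 0 ≤ e 1) (h12 : e 1 ≤ e 2) (h23 : e 2 ≤ e 3) (hp : p = 0 ∨ d < p) :
    HasGenericCount (k := k) d e (min (e 0) (d + 1 - e 3)) := by
  classical
  let σ : Par := ⟨d, d - e 3, e 0, e 1, e 2⟩
  have := hed 0; have := hed 1; have := hed 2; have := hed 3
  have := h2 0; have := h2 1; have := h2 2; have := h2 3
  have hσ : σ.Ok := by constructor <;> simp only [σ] <;> omega
  have hN : σ.N = min (e 0) (d + 1 - e 3) := by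
    simp only [Par.N, σ]; congr 1; omega
  have hadm : Admissible p d e := by
    refine ⟨fun i => ⟨h2 i, hed i, fun hdvd => ?_⟩, ?_⟩
    · rcases hp with rfl | hp
      · have := Nat.eq_zero_of_zero_dvd hdvd; have := h2 i; omega
      · have := Nat.le_of_dvd (by have := h2 i; omega) hdvd; have := hed i; omega
    · rw [Fin.sum_univ_four]; omega
  obtain ⟨Φ1, hΦ1, h1⟩ := Groth.Agent.S13921.result k p d 4 e hadm
  obtain ⟨Bad, hBad⟩ := Par.exists_finite_bad (k := k) hσ hp
  let cr : k → MvPolynomial (Fin 4) k := fun l =>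
    (MvPolynomial.X 0 - MvPolynomial.X 1) * (MvPolynomial.X 2 - MvPolynomial.X 3) -
      MvPolynomial.C l * ((MvPolynomial.X 0 - MvPolynomial.X 2) * (MvPolynomial.X 1 - MvPolynomial.X 3))
  have hcr : ∀ l, cr l ≠ 0 := by
    intro l h
    have h1 := congrArg (MvPolynomial.eval ![(0 : k), 0, 1, 1]) h
    have h2 := congrArg (MvPolynomial.eval ![(1 : k), 0, 1, 0]) h
    simp [cr] at h1 h2
  refine ⟨Φ1 * (∏ x ∈ (Finset.univ : Finset (Fin 4)).offDiag, (MvPolynomial.X x.1 - MvPolynomial.X x.2)) *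
    ∏ l ∈ Bad, cr l, ?_, fun P hP => ?_⟩
  · refine mul_ne_zero (mul_ne_zero hΦ1 (Finset.prod_ne_zero_iff.2 fun x hx => sub_ne_zero.2 fun h => ?_))
      (Finset.prod_ne_zero_iff.2 fun l _ => hcr l)
    exact (Finset.mem_offDiag.1 hx).2.2 (MvPolynomial.X_injective h)
  simp only [map_mul, map_prod, map_sub, MvPolynomial.eval_X, MvPolynomial.eval_C, cr, mul_ne_zero_iff,
    Finset.prod_ne_zero_iff] at hP
  obtain ⟨⟨hP1, hPd⟩, hPB⟩ := hP
  have hinj : Function.Injective P := fun i j h => by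
    by_contra hne
    exact hPd (i, j) (Finset.mem_offDiag.2 ⟨Finset.mem_univ _, Finset.mem_univ _, hne⟩) (sub_eq_zero.2 h)
  set b := P 3 with hb
  have hne : ∀ i : Fin 4, i ≠ 3 → P i ≠ b := fun i hi h => hi (hinj h)
  set β := (P 0 - b)⁻¹ with hβ
  set α := (P 2 - b)⁻¹ - β with hα'
  have hα : α ≠ 0 := sub_ne_zero.2 fun h => absurd (hinj (sub_left_injective (inv_injective h))) (by decide)
  set lam := ((P 1 - b)⁻¹ - β) / α with hlam'
  have hlam : lam ≠ 0 :=
    div_ne_zero (sub_ne_zero.2 fun h => absurd (hinj (sub_left_injective (inv_injective h))) (by decide)) hα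
  have hlam1 : lam ≠ 1 := fun h => by
    rw [hlam', div_eq_one_iff_eq hα, hα', sub_left_inj] at h
    exact absurd (hinj (sub_left_injective (inv_injective h))) (by decide)
  have hlB : lam ∉ Bad := fun h => hPB lam h (by
    have h1 : lam * α = (P 1 - b)⁻¹ - β := div_mul_cancel₀ _ hα
    rw [hα', hβ] at h1
    have e1 := sub_ne_zero.2 (hne 0 (by decide))
    have e2 := sub_ne_zero.2 (hne 1 (by decide))
    have e3 := sub_ne_zero.2 (hne 2 (by decide))
    field_simp at h1
    simp only [hb] at h1 ⊢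
    linear_combination -h1)
  have u0 : α * 0 + β = (P 0 - b)⁻¹ := by rw [mul_zero, zero_add]
  have u1 : α * lam + β = (P 1 - b)⁻¹ := by rw [hlam', mul_div_cancel₀ _ hα]; ring
  have u2 : α * 1 + β = (P 2 - b)⁻¹ := by rw [hα']; ring
  set T := tr d b α β hα with hT
  have hfwd : ∀ V ∈ ramMaps d P e, V.map T.toLinearMap ∈ Par.maps σ lam := by
    rintro V ⟨⟨hle, hrk, ⟨sd, hsd, hsdd⟩, hbp⟩, -, hram⟩
    have hdle : ∀ s ∈ V, s.natDegree ≤ d := fun s hs => Three.natDegree_le_of_mem hle hs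
    have hmem : ∀ (i : Fin 4) (u : k), α * u + β = (P i - b)⁻¹ → i ≠ 3 →
        ∃ t ∈ V.map T.toLinearMap, t ≠ 0 ∧ (X - C u) ^ e i ∣ t := by
      intro i u hu hi
      obtain ⟨⟨s, hs, hs0, hse⟩, -⟩ := hram i
      exact ⟨T s, Submodule.mem_map_of_mem hs, T.map_ne_zero_iff.2 hs0,
        dvd_tr (hdle s hs) hu (hne i hi) ((le_rootMultiplicity_iff hs0).1 hse)⟩
    refine ⟨?_, ?_, ?_, hmem 1 lam u1 (by decide), hmem 2 1 u2 (by decide), ?_, fun r => ?_⟩
    · rintro _ ⟨s, hs, rfl⟩
      exact mem_degreeLE.2 (natDegree_le_iff_degree_le.1 (natDegree_tr (hdle s hs)))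
    · rw [LinearEquiv.finrank_map_eq, hrk]
    · simpa using hmem 0 0 u0 (by decide)
    · obtain ⟨⟨s, hs, hs0, hse⟩, -⟩ := hram 3
      exact ⟨T s, Submodule.mem_map_of_mem hs, T.map_ne_zero_iff.2 hs0,
        natDegree_tr_of_dvd (hdle s hs) ((le_rootMultiplicity_iff hs0).1 hse)⟩
    · by_cases hr : α * r + β = 0
      · refine ⟨T sd, Submodule.mem_map_of_mem hsd, tr_eval_pole hsdd (fun h => ?_) hr⟩
        rw [h, natDegree_zero] at hsdd; omega
      · set a := (α * r + β)⁻¹ + b with ha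
        have hab : a ≠ b := by simp [ha, hr]
        have hu : α * r + β = (a - b)⁻¹ := by simp [ha]
        obtain ⟨s, hs, hsa⟩ := hbp a
        refine ⟨T s, Submodule.mem_map_of_mem hs, fun h => hsa ?_⟩
        have h1 := dvd_tr_symm (hα := hα) (natDegree_tr (hdle s hs)) hu hab hα (e := 1)
          (by rw [pow_one]; exact dvd_iff_isRoot.2 h)
        rw [pow_one, ← hT, LinearEquiv.symm_apply_apply] at h1
        exact dvd_iff_isRoot.1 h1
  have hbwd : ∀ V ∈ Par.maps σ lam, V.map T.symm.toLinearMap ∈ ramMaps d P e := by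
    rintro V ⟨hle, hrk, ⟨s0, hs0, hs00, hd0⟩, ⟨s1, hs1, hs10, hd1⟩, ⟨s2, hs2, hs20, hd2⟩,
      ⟨s3, hs3, hs30, hd3⟩, -⟩
    have hdle : ∀ s ∈ V, s.natDegree ≤ d := fun s hs => Three.natDegree_le_of_mem hle hs
    have hle' : V.map T.symm.toLinearMap ≤ degreeLE k (d : WithBot ℕ) := by
      rintro _ ⟨s, hs, rfl⟩
      exact mem_degreeLE.2 (natDegree_le_iff_degree_le.1 (natDegree_tr_symm (hdle s hs)))
    have hrk' : Module.finrank k (V.map T.symm.toLinearMap) = 2 := by
      rw [LinearEquiv.finrank_map_eq, hrk]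
    refine Three.mem_ramMaps (by omega) hinj h2 (by rw [Fin.sum_univ_four]; omega) hle' hrk' ?_ fun i => ?_
    · obtain ⟨s, t, hst, hind⟩ := Three.exists_pair hrk'
      rw [hst] at hle' ⊢
      exact ⟨s, Submodule.subset_span (Set.mem_insert _ _), t, Submodule.subset_span (by simp),
        wronskian_ne_zero_of_indep hp (Three.natDegree_le_of_mem hle' (Submodule.subset_span (Set.mem_insert _ _)))
          (Three.natDegree_le_of_mem hle' (Submodule.subset_span (by simp))) hind⟩
    · have key : ∀ s ∈ V, s ≠ 0 → (X - C (P i)) ^ e i ∣ T.symm s →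
          ∃ t ∈ V.map T.symm.toLinearMap, t ≠ 0 ∧ e i ≤ t.rootMultiplicity (P i) := fun s hs h0 hd =>
        ⟨T.symm s, Submodule.mem_map_of_mem hs, T.symm.map_ne_zero_iff.2 h0,
          (le_rootMultiplicity_iff (T.symm.map_ne_zero_iff.2 h0)).2 hd⟩
      fin_cases i
      · exact key s0 hs0 hs00 (dvd_tr_symm (hdle _ hs0) u0 (hne 0 (by decide)) hα (by simpa using hd0))
      · exact key s1 hs1 hs10 (dvd_tr_symm (hdle _ hs1) u1 (hne 1 (by decide)) hα hd1)
      · exact key s2 hs2 hs20 (dvd_tr_symm (hdle _ hs2) u2 (hne 2 (by decide)) hα hd2)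
      · exact key s3 hs3 hs30 (pow_dvd_tr_symm (hed 3) hd3)
  have hsep : ∀ V ∈ Par.maps σ lam, ∀ s ∈ V, s.eval 0 = 0 → s.natDegree ≤ σ.m → s = 0 := by
    intro V hV s hs h0 hd
    have hd' : s.natDegree ≤ d := Three.natDegree_le_of_mem hV.1 hs
    have ha : (X - C (P 0)) ^ 1 ∣ T.symm s :=
      dvd_tr_symm hd' u0 (hne 0 (by decide)) hα (by rw [pow_one]; exact dvd_iff_isRoot.2 h0)
    have hb' : (X - C b) ^ 1 ∣ T.symm s :=
      pow_dvd_tr_symm (by omega) (by simp only [σ] at hd; omega)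
    rw [pow_one] at ha hb'
    exact T.symm.map_eq_zero_iff.1 ((h1 P hP1).2 _ (hbwd V hV) 0 3 (by decide) _
      (Submodule.mem_map_of_mem hs) ⟨dvd_iff_isRoot.1 ha, dvd_iff_isRoot.1 hb'⟩)
  obtain ⟨hfin, hcard⟩ := Par.maps_card lam hσ hp hlam hlam1 hsep (hBad lam hlB)
  let E : ramMaps d P e ≃ Par.maps σ lam :=
    { toFun := fun V => ⟨_, hfwd V V.2⟩
      invFun := fun V => ⟨_, hbwd V V.2⟩
      left_inv := fun V => Subtype.ext (by ext x; simp [Submodule.mem_map])
      right_inv := fun V => Subtype.ext (by ext x; simp [Submodule.mem_map]) }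
  haveI := hfin.to_subtype
  refine ⟨Set.finite_coe_iff.1 (Finite.of_equiv _ E.symm), ?_⟩
  rw [Nat.card_congr E, Nat.card_coe_set_eq, hcard, hN]

end Groth.Agent.Lib.RamP1.Four45
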