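import Groth.Agent.Lib.RamP1.Three
import Mathlib.RingTheory.Polynomial.Resultant.Basic
import Mathlib.FieldTheory.Separable

/-!
# Pencils with four ramification points and the Heun equation

Pencils of degree `d` ramified at `0, ∞, λ, 1` are the two-dimensional polynomial kernels of a Heun
operator `L q`; the accessory parameters `q` which occur are the roots of a continuant of degree
`min (a, m + 1)`, which has simple roots for general `λ`.
-/

set_option autoImplicit false

universe u

open Polynomial W4c1limliniiii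

noncomputable section

namespace Groth.Agent.Lib.RamP1.Four45

/-- Degree `d`, indices `a, b, c` at `0, λ, 1` and index `d - m` at infinity. -/
structure Par : Type where
  d : ℕ
  m : ℕ
  a : ℕ
  b : ℕ
  c : ℕ

namespace Par

structure Ok (σ : Par) : Prop where
  ha : 2 ≤ σ.a
  hb : 2 ≤ σ.b
  hc : 2 ≤ σ.c
  had : σ.a ≤ σ.d
  hbd : σ.b ≤ σ.d
  hcd : σ.c ≤ σ.d
  hmd : σ.m < σ.d
  hsum : σ.a + σ.b + σ.c = σ.d + σ.m + 2
  hab : σ.a + σ.b ≤ σ.d + 1
  hmb : σ.m < σ.b
  hmc : σ.m < σ.c

/-- The number of solutions. -/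
def N (σ : Par) : ℕ := min σ.a (σ.m + 1)

section Ring

variable {R : Type*} [CommRing R] (σ : Par) (lam : R)

def T : R := (1 - (σ.a : R)) * (1 + lam) + (1 - (σ.b : R)) + (1 - (σ.c : R)) * lam

/-- The diagonal coefficient. -/
def cN (n : ℕ) : R := -(n : R) * ((1 + lam) * ((n : R) - 1) + σ.T lam)

/-- The superdiagonal coefficient. -/
def uN (n : ℕ) : R := lam * ((n : R) + 1) * ((n : R) + 1 - σ.a)

/-- The subdiagonal coefficient. -/
def wS (n : ℕ) : R := ((n : R) - σ.d) * ((n : R) - σ.m)

/-- The continuant. -/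
def pi (q : R) : ℕ → R
  | 0 => 1
  | 1 => q - σ.cN lam 0
  | n + 2 => (q - σ.cN lam (n + 1)) * pi q (n + 1) - σ.wS n * σ.uN lam n * pi q n

theorem map_pi {S : Type*} [CommRing S] (f : R →+* S) (q : R) :
    ∀ n, f (σ.pi lam q n) = σ.pi (f lam) (f q) n
  | 0 => map_one f
  | 1 => by simp [pi, cN, T]
  | n + 2 => by
    simp only [pi, map_sub, map_mul, map_pi f q n, map_pi f q (n + 1)]
    simp [cN, T, uN, wS]

theorem natDegree_pi_X_aux (lam : R) [Nontrivial R] : ∀ n,
    ((σ.pi (C lam) (X : R[X]) n).Monic ∧ (σ.pi (C lam) (X : R[X]) n).natDegree = n)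
  | 0 => by simp [pi]
  | 1 => by simp [pi, cN]
  | n + 2 => by
    obtain ⟨h1, h2⟩ := natDegree_pi_X_aux lam (n + 1)
    obtain ⟨-, h3⟩ := natDegree_pi_X_aux lam n
    have hc : σ.cN (C lam) (n + 1) = C (σ.cN lam (n + 1)) := by simp [cN, T]
    have hw : σ.wS n * σ.uN (C lam) n = C (σ.wS n * σ.uN lam n) := by simp [uN, wS]
    have hm : ((X - C (σ.cN lam (n + 1))) * σ.pi (C lam) X (n + 1)).Monic :=
      (monic_X_sub_C _).mul h1
    have hd : ((X - C (σ.cN lam (n + 1))) * σ.pi (C lam) X (n + 1)).natDegree = n + 2 := by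
      rw [(monic_X_sub_C _).natDegree_mul h1, natDegree_X_sub_C, h2]; omega
    have hlt : (C (σ.wS n * σ.uN lam n) * σ.pi (C lam) X n).natDegree < n + 2 :=
      lt_of_le_of_lt (natDegree_C_mul_le _ _) (by omega)
    simp only [pi]
    rw [hc, hw]
    refine ⟨hm.sub_of_left ?_, ?_⟩
    · exact degree_lt_degree (by omega)
    · rw [natDegree_sub_eq_left_of_natDegree_lt (by omega), hd]

theorem pi_zero_lam (q : R) : ∀ n, σ.pi 0 q n = ∏ j ∈ Finset.range n, (q - σ.cN 0 j)
  | 0 => by simp [pi]
  | 1 => by simp [pi]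
  | n + 2 => by
    rw [Finset.prod_range_succ, ← pi_zero_lam q (n + 1)]
    simp only [pi, uN]
    ring

end Ring

section Field

variable {k : Type u} [Field k] (σ : Par) (lam q : k)

def P3 : k[X] := X * (X - C 1) * (X - C lam)

def P2 : k[X] := C (1 - (σ.d : k) - σ.m) * X ^ 2 - C (σ.T lam) * X + C ((1 - (σ.a : k)) * lam)

/-- The Heun operator. -/
def L : k[X] →ₗ[k] k[X] where
  toFun y := P3 lam * derivative (derivative y) + σ.P2 lam * derivative y +
    (C ((σ.d : k) * σ.m) * X - C q) * y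
  map_add' x y := by simp only [map_add]; ring
  map_smul' c y := by
    simp only [smul_eq_C_mul, derivative_C_mul, RingHom.id_apply]; ring

theorem L_apply (y : k[X]) : σ.L lam q y = P3 lam * derivative (derivative y) +
    σ.P2 lam * derivative y + (C ((σ.d : k) * σ.m) * X - C q) * y := rfl

/-- The product of `(X - P) ^ (e - 1)`. -/
def W : k[X] := X ^ (σ.a - 1) * (X - C lam) ^ (σ.b - 1) * (X - C 1) ^ (σ.c - 1)

theorem L_expand (y : k[X]) : σ.L lam q y =
    X ^ 3 * derivative (derivative y) + C (-(1 + lam)) * (X ^ 2 * derivative (derivative y)) +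
      C lam * (X ^ 1 * derivative (derivative y)) +
      C (1 - (σ.d : k) - σ.m) * (X ^ 2 * derivative y) + C (-σ.T lam) * (X ^ 1 * derivative y) +
      C ((1 - (σ.a : k)) * lam) * derivative y + C ((σ.d : k) * σ.m) * (X ^ 1 * y) + C (-q) * y := by
  simp only [L_apply, P3, P2, map_neg, map_add, map_one, pow_one]; ring

theorem coeff_L_zero (y : k[X]) :
    (σ.L lam q y).coeff 0 = σ.uN lam 0 * y.coeff 1 + (σ.cN lam 0 - q) * y.coeff 0 := by
  rw [L_expand]
  simp only [coeff_add, coeff_C_mul, coeff_X_pow_mul', coeff_derivative]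
  simp [uN, cN]
  exact Or.inl (mul_comm _ _)

theorem coeff_L_succ (y : k[X]) (n : ℕ) :
    (σ.L lam q y).coeff (n + 1) = σ.uN lam (n + 1) * y.coeff (n + 2) +
      (σ.cN lam (n + 1) - q) * y.coeff (n + 1) + σ.wS n * y.coeff n := by
  rw [L_expand]
  match n with
  | 0 =>
    simp only [coeff_add, coeff_C_mul, coeff_X_pow_mul', coeff_derivative]
    simp [uN, cN, wS]
    ring
  | 1 =>
    simp only [coeff_add, coeff_C_mul, coeff_X_pow_mul', coeff_derivative]
    simp [uN, cN, wS]
    ring
  | n + 2 =>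
    simp only [coeff_add, coeff_C_mul, coeff_X_pow_mul', coeff_derivative]
    simp [uN, cN, wS, show n + 2 + 1 - 3 = n by omega, show n + 2 + 1 - 2 = n + 1 by omega]
    ring

theorem X_sub_C_mul_derivative_pow (r : k) (j : ℕ) :
    (X - C r) * derivative ((X - C r) ^ j) = C (j : k) * (X - C r) ^ j := by
  rcases j with - | j
  · simp
  · rw [derivative_pow_succ, derivative_X_sub_C, mul_one, pow_succ]
    push_cast; ring

variable {σ}

theorem Ok.P3_mul_derivative_W (hσ : σ.Ok) :
    P3 lam * derivative (σ.W lam) + σ.P2 lam * σ.W lam = 0 := by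
  have h1 := X_sub_C_mul_derivative_pow (0 : k) (σ.a - 1)
  have h2 := X_sub_C_mul_derivative_pow lam (σ.b - 1)
  have h3 := X_sub_C_mul_derivative_pow (1 : k) (σ.c - 1)
  rw [Nat.cast_sub (by linarith [hσ.ha] : 1 ≤ σ.a), Nat.cast_one] at h1
  rw [Nat.cast_sub (by linarith [hσ.hb] : 1 ≤ σ.b), Nat.cast_one] at h2
  rw [Nat.cast_sub (by linarith [hσ.hc] : 1 ≤ σ.c), Nat.cast_one] at h3
  simp only [map_zero, sub_zero, map_sub, map_one] at h1 h2 h3
  have hs : C (σ.a : k) + C (σ.b : k) + C (σ.c : k) = C (σ.d : k) + C (σ.m : k) + 2 := by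
    have := congrArg (fun n : ℕ => (n : k[X])) hσ.hsum
    simpa [map_natCast] using this
  simp only [W, P3, P2, T, derivative_mul, map_one, map_mul, map_add, map_sub]
  linear_combination (X - C lam) ^ (σ.b - 1) * (X - 1) ^ (σ.c - 1) * (X - 1) * (X - C lam) * h1 +
    X ^ (σ.a - 1) * (X - 1) ^ (σ.c - 1) * X * (X - 1) * h2 +
    X ^ (σ.a - 1) * (X - C lam) ^ (σ.b - 1) * X * (X - C lam) * h3 +
    X ^ (σ.a - 1) * (X - C lam) ^ (σ.b - 1) * (X - 1) ^ (σ.c - 1) * X ^ 2 * hs

theorem Ok.W_monic (_hσ : σ.Ok) : (σ.W lam).Monic :=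
  ((monic_X_pow _).mul ((monic_X_sub_C _).pow _)).mul ((monic_X_sub_C _).pow _)

theorem Ok.natDegree_W (hσ : σ.Ok) : (σ.W lam).natDegree = σ.d + σ.m - 1 := by
  rw [W, ((monic_X_pow _).mul ((monic_X_sub_C _).pow _)).natDegree_mul ((monic_X_sub_C _).pow _),
    (monic_X_pow _).natDegree_mul ((monic_X_sub_C _).pow _), natDegree_X_pow,
    natDegree_pow, natDegree_X_sub_C, natDegree_pow, natDegree_X_sub_C]
  have := hσ.hsum; have := hσ.ha; have := hσ.hb; have := hσ.hc
  omega

/-! ### Casts of small natural numbers -/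

variable {p : ℕ} [CharP k p]

omit lam q in
theorem cast_inj_small (hp : p = 0 ∨ σ.d < p) {i j : ℕ} (hi : i ≤ σ.d) (hj : j ≤ σ.d)
    (h : (i : k) = j) : i = j := by
  rcases hp with rfl | hp
  · haveI : CharZero k := CharP.charP_to_charZero k
    exact_mod_cast h
  · exact CharP.natCast_injOn_Iio k p (by simp; omega) (by simp; omega) h

variable (hσ : σ.Ok) (hp : p = 0 ∨ σ.d < p)
include hσ hp

theorem uN_ne_zero (hlam : lam ≠ 0) {n : ℕ} (hn : n + 1 < σ.a) : σ.uN lam n ≠ 0 := by
  have := hσ.had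
  refine mul_ne_zero (mul_ne_zero hlam fun h => ?_) fun h => ?_
  · exact absurd (cast_inj_small (σ := σ) hp (i := n + 1) (j := 0) (by omega) (by omega)
      (by push_cast; exact h)) (by omega)
  · exact absurd (cast_inj_small (σ := σ) hp (i := n + 1) (j := σ.a) (by omega) this
      (by push_cast; exact sub_eq_zero.1 h)) (by omega)

/-- The polynomial kernel of `L q` in degree at most `d` is detected by two coefficients. -/
theorem eq_zero_of_coeff {y : k[X]} (hy : σ.L lam q y = 0) (hd : y.natDegree ≤ σ.d)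
    (h1 : y.coeff σ.d = 0) (h2 : y.coeff σ.m = 0) : y = 0 := by
  by_contra h0
  have h := congrArg (fun s : k[X] => s.coeff (y.natDegree + 1)) hy
  simp only [coeff_L_succ, coeff_zero] at h
  rw [coeff_eq_zero_of_natDegree_lt (n := y.natDegree + 2) (by omega),
    coeff_eq_zero_of_natDegree_lt (n := y.natDegree + 1) (by omega)] at h
  have h3 : y.coeff y.natDegree ≠ 0 := by
    rw [coeff_natDegree]; exact leadingCoeff_ne_zero.2 h0
  simp [wS, h0, sub_eq_zero] at h
  have := hσ.hmd
  rcases h with h | h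
  · exact h3 (cast_inj_small (σ := σ) hp hd le_rfl h ▸ h1)
  · exact h3 (cast_inj_small (σ := σ) hp hd this.le h ▸ h2)

theorem finrank_le_two {V : Submodule k k[X]} (hV : ∀ y ∈ V, y.natDegree ≤ σ.d ∧ σ.L lam q y = 0) :
    Module.Finite k V ∧ Module.finrank k V ≤ 2 := by
  let f : V →ₗ[k] k × k :=
    LinearMap.prod ((Polynomial.lcoeff k σ.d).comp V.subtype) ((Polynomial.lcoeff k σ.m).comp V.subtype)
  have hf : Function.Injective f := by
    rw [← LinearMap.ker_eq_bot, Submodule.eq_bot_iff]
    rintro ⟨y, hy⟩ h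
    simp [f, Prod.ext_iff] at h
    exact Subtype.ext (eq_zero_of_coeff lam q hσ hp (hV y hy).2 (hV y hy).1 h.1 h.2)
  refine ⟨Module.Finite.of_injective f hf, (LinearMap.finrank_le_finrank_of_injective hf).trans ?_⟩
  simp

/-! ### Orders of vanishing of solutions -/

omit hσ hp in
theorem derivative_factor (r : k) (j : ℕ) (z : k[X]) :
    derivative ((X - C r) ^ (j + 1) * z) =
      (X - C r) ^ j * (C ((j : k) + 1) * z + (X - C r) * derivative z) := by
  rw [derivative_mul, derivative_pow_succ, derivative_X_sub_C, pow_succ]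
  simp only [mul_one]
  ring

omit hσ in
theorem order_regular {y : k[X]} (hy : σ.L lam q y = 0) (hd : y.natDegree ≤ σ.d) {r : k}
    (hr : (P3 lam).eval r ≠ 0) {j : ℕ} {z : k[X]} (hz : y = (X - C r) ^ j * z) (hz0 : z.eval r ≠ 0) :
    j ≤ 1 := by
  by_contra hj
  obtain ⟨i, rfl⟩ : ∃ i, j = i + 2 := ⟨j - 2, by omega⟩
  rw [hz, L_apply, derivative_factor, derivative_factor] at hy
  have h : (X - C r) ^ i * (P3 lam * (C ((i : k) + 1) * (C (((i + 1 : ℕ) : k) + 1) * z +
      (X - C r) * derivative z) + (X - C r) * derivative (C (((i + 1 : ℕ) : k) + 1) * z +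
      (X - C r) * derivative z)) + σ.P2 lam * ((X - C r) * (C (((i + 1 : ℕ) : k) + 1) * z +
      (X - C r) * derivative z)) + (C ((σ.d : k) * σ.m) * X - C q) * ((X - C r) ^ 2 * z)) = 0 := by
    linear_combination hy
  have h' := congrArg (eval r) ((mul_eq_zero.1 h).resolve_left (pow_ne_zero _ (X_sub_C_ne_zero r)))
  simp [hr, hz0] at h'
  have hle : i + 2 ≤ σ.d := by
    refine le_trans ?_ hd
    rw [hz, natDegree_mul (pow_ne_zero _ (X_sub_C_ne_zero r)) (fun h => hz0 (by simp [h])),
      natDegree_pow, natDegree_X_sub_C]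
    omega
  rcases h' with h' | h'
  · exact absurd (cast_inj_small (σ := σ) hp (i := i + 1) (j := 0) (by omega) (by omega)
      (by push_cast; exact h')) (by omega)
  · exact absurd (cast_inj_small (σ := σ) hp (i := i + 2) (j := 0) (by omega) (by omega)
      (by push_cast; linear_combination h')) (by omega)

omit hσ in
theorem order_singular {y : k[X]} (hy : σ.L lam q y = 0) (hd : y.natDegree ≤ σ.d) {r : k} {S : k[X]}
    (hS : P3 lam = (X - C r) * S) (hS0 : S.eval r ≠ 0) {e : ℕ} (he : e ≤ σ.d)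
    (h2 : (σ.P2 lam).eval r = (1 - (e : k)) * S.eval r) {j : ℕ} {z : k[X]}
    (hz : y = (X - C r) ^ j * z) (hz0 : z.eval r ≠ 0) : j = 0 ∨ j = e := by
  rcases Nat.eq_zero_or_pos j with h | h
  · exact Or.inl h
  obtain ⟨i, rfl⟩ : ∃ i, j = i + 1 := ⟨j - 1, by omega⟩
  right
  have hle : i + 1 ≤ σ.d := by
    refine le_trans ?_ hd
    rw [hz, natDegree_mul (pow_ne_zero _ (X_sub_C_ne_zero r)) (fun h => hz0 (by simp [h])),
      natDegree_pow, natDegree_X_sub_C]
    omega
  set Z := C ((i : k) + 1) * z + (X - C r) * derivative z with hZ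
  rw [hz, L_apply, derivative_factor, ← hZ] at hy
  have hXd : (X - C r) * derivative ((X - C r) ^ i * Z) =
      (X - C r) ^ i * (C (i : k) * Z + (X - C r) * derivative Z) := by
    rw [derivative_mul, mul_add, ← mul_assoc, X_sub_C_mul_derivative_pow]; ring
  have h : (X - C r) ^ i * (S * (C (i : k) * Z + (X - C r) * derivative Z) + σ.P2 lam * Z +
      (C ((σ.d : k) * σ.m) * X - C q) * ((X - C r) * z)) = 0 := by
    rw [hS] at hy
    linear_combination hy - S * hXd
  have h' := congrArg (eval r) ((mul_eq_zero.1 h).resolve_left (pow_ne_zero _ (X_sub_C_ne_zero r)))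
  simp [hZ, h2] at h'
  have h'' : ((i : k) + 1) * ((i : k) + 1 - e) = 0 := by
    apply (mul_eq_zero.1 (?_ : ((i : k) + 1) * ((i : k) + 1 - e) * (S.eval r * z.eval r) = 0)).resolve_right
      (mul_ne_zero hS0 hz0)
    linear_combination h'
  rcases mul_eq_zero.1 h'' with h'' | h''
  · exact absurd (cast_inj_small (σ := σ) hp (i := i + 1) (j := 0) (by omega) (by omega)
      (by push_cast; exact h'')) (by omega)
  · exact cast_inj_small (σ := σ) hp hle he (by push_cast; exact sub_eq_zero.1 h'')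

omit hσ in
theorem order_zero (hlam : lam ≠ 0) (had : σ.a ≤ σ.d) {y : k[X]} (hy : σ.L lam q y = 0)
    (hd : y.natDegree ≤ σ.d) (hy0 : y ≠ 0) : y.eval 0 ≠ 0 ∨ X ^ σ.a ∣ y := by
  obtain ⟨z, hz, hzd⟩ := exists_eq_pow_rootMultiplicity_mul_and_not_dvd y hy0 (0 : k)
  have hz0 : z.eval 0 ≠ 0 := fun h => hzd (dvd_iff_isRoot.2 h)
  rcases order_singular lam q hp hy hd (r := 0) (S := (X - C 1) * (X - C lam))
    (by simp [P3, mul_assoc]) (by simp [hlam]) had (by simp [P2]) hz hz0 with h | h
  · left; rw [hz, h]; simpa using hz0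
  · right; rw [hz, h]; simp

theorem eval_ne_zero_of_le (hlam : lam ≠ 0) (hlam1 : lam ≠ 1) {y : k[X]} (hy : σ.L lam q y = 0)
    (hd : y.natDegree ≤ σ.m) (hy0 : y ≠ 0) : y.eval 1 ≠ 0 ∧ y.eval lam ≠ 0 := by
  have hdd : y.natDegree ≤ σ.d := hd.trans hσ.hmd.le
  have key : ∀ (r : k) (S : k[X]) (e : ℕ), P3 lam = (X - C r) * S → S.eval r ≠ 0 → e ≤ σ.d →
      σ.m < e → (σ.P2 lam).eval r = (1 - (e : k)) * S.eval r → y.eval r ≠ 0 := by
    intro r S e hS hS0 he hme h2
    obtain ⟨z, hz, hzd⟩ := exists_eq_pow_rootMultiplicity_mul_and_not_dvd y hy0 r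
    have hz0 : z.eval r ≠ 0 := fun h => hzd (dvd_iff_isRoot.2 h)
    have hz1 : z ≠ 0 := fun h => hz0 (by simp [h])
    rcases order_singular lam q hp hy hdd hS hS0 he h2 hz hz0 with h | h
    · rw [hz, h]; simpa using hz0
    · rw [hz, h, natDegree_mul (pow_ne_zero _ (X_sub_C_ne_zero r)) hz1, natDegree_pow,
        natDegree_X_sub_C] at hd
      omega
  have hs : (σ.a : k) + σ.b + σ.c = σ.d + σ.m + 2 := by
    have := congrArg (fun n : ℕ => (n : k)) hσ.hsum
    simpa using this
  refine ⟨key 1 (X * (X - C lam)) σ.c (by simp [P3]; ring) (by simp [sub_ne_zero.2 hlam1.symm])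
    hσ.hcd hσ.hmc ?_, key lam (X * (X - C 1)) σ.b (by simp [P3]; ring)
    (by simp [hlam, sub_ne_zero.2 hlam1]) hσ.hbd hσ.hmb ?_⟩
  · simp [P2, T]; linear_combination hs
  · simp [P2, T]; linear_combination lam ^ 2 * hs

theorem root_simple {y : k[X]} (hy : σ.L lam q y = 0) (hd : y.natDegree ≤ σ.d) (hy0 : y ≠ 0)
    {r : k} (hP : (P3 lam).eval r ≠ 0) (hr : y.eval r = 0) : (derivative y).eval r ≠ 0 := by
  obtain ⟨z, hz, hzd⟩ := exists_eq_pow_rootMultiplicity_mul_and_not_dvd y hy0 r
  have hz0 : z.eval r ≠ 0 := fun h => hzd (dvd_iff_isRoot.2 h)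
  have h1 := order_regular lam q hp hy hd hP hz hz0
  interval_cases h : y.rootMultiplicity r
  · rw [hz] at hr; simp at hr; exact absurd hr hz0
  · rw [hz]; simpa [derivative_mul] using hz0

omit hσ hp in
/-- At a regular root of a solution the weight `W` has no residue against the solution. -/
theorem residue_W (hW : P3 lam * derivative (σ.W lam) + σ.P2 lam * σ.W lam = 0) {y : k[X]}
    (hy : σ.L lam q y = 0) {r : k} (hP : (P3 lam).eval r ≠ 0) (hr : y.eval r = 0) :
    (derivative (σ.W lam)).eval r * (derivative y).eval r =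
      (σ.W lam).eval r * (derivative (derivative y)).eval r := by
  have h1 := congrArg (eval r) hW
  have h2 := congrArg (eval r) hy
  simp [L_apply, hr] at h1 h2
  refine mul_left_cancel₀ hP ?_
  linear_combination (derivative y).eval r * h1 - (σ.W lam).eval r * h2

end Field

end Par

/-! ### Integration -/

section Integrate

variable {k : Type u} [Field k] [IsAlgClosed k]

theorem exists_wronskian_eq {D : ℕ} (hD : ∀ i : ℕ, 0 < i → i ≤ D → (i : k) ≠ 0) {G h : k[X]} (hG : G ≠ 0)
    (hsimple : ∀ r, G.eval r = 0 → (derivative G).eval r ≠ 0) (hg : G.natDegree ≤ D)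
    (hh : h ∈ degreeLT k (D + G.natDegree))
    (hres : ∀ r, G.eval r = 0 →
      (derivative h).eval r * (derivative G).eval r = h.eval r * (derivative (derivative G)).eval r) :
    ∃ w ∈ degreeLE k (D : WithBot ℕ), wronskian G w = h := by
  classical
  set g := G.natDegree with hgd
  let φ : degreeLT k (D + g) →ₗ[k] (G.roots.toFinset → k) :=
    { toFun := fun s r => (derivative (s : k[X])).eval (r : k) * (derivative G).eval (r : k) -
        (s : k[X]).eval (r : k) * (derivative (derivative G)).eval (r : k)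
      map_add' := fun x y => by ext r; simp; ring
      map_smul' := fun c x => by ext r; simp; ring }
  have hcard : Fintype.card G.roots.toFinset = g := by
    rw [Fintype.card_coe, Multiset.toFinset_card_of_nodup, hgd, IsAlgClosed.card_roots_eq_natDegree]
    rw [Multiset.nodup_iff_count_le_one]
    intro r
    rw [count_roots]
    by_contra hgt
    have h2 : 2 ≤ G.rootMultiplicity r := by omega
    have hdvd : (X - C r) ^ 2 ∣ G := (le_rootMultiplicity_iff hG).1 h2
    obtain ⟨z, hz⟩ := hdvd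
    exact hsimple r (by simp [hz]) (by simp [hz, derivative_mul, derivative_pow])
  have hroot : ∀ r : G.roots.toFinset, G.eval (r : k) = 0 := fun r => by
    have := r.2
    rw [Multiset.mem_toFinset, mem_roots hG] at this
    exact this
  have hsurj : Function.Surjective φ := by
    rw [← LinearMap.range_eq_top, eq_top_iff, ← (Pi.basisFun k G.roots.toFinset).span_eq,
      Submodule.span_le]
    rintro _ ⟨r, rfl⟩
    obtain ⟨z, hz⟩ := dvd_iff_isRoot.2 (hroot r)
    have hz0 : z ≠ 0 := fun h => hG (by rw [hz, h, mul_zero])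
    have hG' : derivative G = z + (X - C (r : k)) * derivative z :=
      (congrArg derivative hz).trans (by simp [derivative_mul])
    have hzr : z.eval (r : k) ≠ 0 := fun h => hsimple r (hroot r) (by simp [hG', h])
    have hdeg : ((X - C (r : k)) * z ^ 2).natDegree < D + g := by
      have : g = 1 + z.natDegree := by
        rw [hgd, hz, natDegree_mul (X_sub_C_ne_zero _) hz0, natDegree_X_sub_C]
      rw [natDegree_mul (X_sub_C_ne_zero _) (pow_ne_zero _ hz0), natDegree_X_sub_C, natDegree_pow]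
      omega
    refine ⟨(z.eval (r : k) ^ 3)⁻¹ • ⟨(X - C (r : k)) * z ^ 2,
      mem_degreeLT.2 (degree_le_natDegree.trans_lt (by exact_mod_cast hdeg))⟩, ?_⟩
    ext s
    rw [map_smul, Pi.smul_apply, Pi.basisFun_apply]
    by_cases hsr : s = r
    · subst hsr
      simp [φ, hG', derivative_mul, derivative_pow]
      field_simp
    · have hne : (s : k) - (r : k) ≠ 0 := sub_ne_zero.2 fun h => hsr (Subtype.ext h)
      have hzs : z.eval (s : k) = 0 := by
        have := (congrArg (eval (s : k)) hz).symm.trans (hroot s)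
        simpa [hne] using this
      simp [φ, derivative_mul, derivative_pow, hzs, hsr]
  have hker : Module.finrank k (LinearMap.ker φ) = D := by
    have h1 := φ.finrank_range_add_finrank_ker
    rw [LinearMap.range_eq_top.2 hsurj, finrank_top, Module.finrank_fintype_fun_eq_card, hcard,
      (degreeLTEquiv k (D + g)).finrank_eq, Module.finrank_fin_fun] at h1
    omega
  haveI : Module.Finite k (degreeLE k (D : WithBot ℕ)) := by
    rw [← Polynomial.degreeLT_succ_eq_degreeLE]
    exact Module.Finite.equiv (degreeLTEquiv k (D + 1)).symm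
  haveI : Module.Finite k (degreeLT k (D + g)) := Module.Finite.equiv (degreeLTEquiv k (D + g)).symm
  let Wl : k[X] →ₗ[k] k[X] :=
    { toFun := fun w => wronskian G w
      map_add' := fun x y => by simp [wronskian, derivative_add]; ring
      map_smul' := fun c x => by simp [wronskian, smul_eq_C_mul, derivative_C_mul]; ring }
  let ψ := Wl.comp (degreeLE k (D : WithBot ℕ)).subtype
  have hle : LinearMap.range ψ ≤ (LinearMap.ker φ).map (degreeLT k (D + g)).subtype := by
    rintro _ ⟨⟨w, hw⟩, rfl⟩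
    have hwd : w.natDegree ≤ D := natDegree_le_iff_degree_le.2 (mem_degreeLE.1 hw)
    have hmem : wronskian G w ∈ degreeLT k (D + g) := by
      refine mem_degreeLT.2 ?_
      rcases eq_or_ne (wronskian G w) 0 with h0 | h0
      · rw [h0, degree_zero]; exact WithBot.bot_lt_coe _
      · refine degree_le_natDegree.trans_lt (Nat.cast_lt.2 ?_)
        have := natDegree_wronskian_lt_add h0
        omega
    refine ⟨⟨_, hmem⟩, ?_, rfl⟩
    ext r
    simp [φ, wronskian, hroot r, derivative_mul, derivative_sub]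
    ring
  have hkerψ : LinearMap.ker ψ ≤ Submodule.span k {⟨G, mem_degreeLE.2
      (degree_le_natDegree.trans (by exact_mod_cast hg))⟩} := by
    rintro ⟨w, hw⟩ hker
    simp [ψ, Wl, wronskian, sub_eq_zero] at hker
    have hcop : IsCoprime G (derivative G) := by
      refine isCoprime_of_dvd _ _ (fun h => hG h.1) fun z hz hz0 hzG hzd => ?_
      obtain ⟨r, hr⟩ := IsAlgClosed.exists_root z fun h => hz (isUnit_iff_degree_eq_zero.2 h)
      exact hsimple r (eval_eq_zero_of_dvd_of_eval_eq_zero hzG hr) (eval_eq_zero_of_dvd_of_eval_eq_zero hzd hr)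
    obtain ⟨z, hz⟩ : G ∣ w := hcop.dvd_of_dvd_mul_left ⟨derivative w, hker.symm⟩
    have hz' : derivative z = 0 := by
      rw [hz, derivative_mul] at hker
      exact (mul_eq_zero.1 (show G * G * derivative z = 0 by linear_combination hker)).resolve_left
        (mul_ne_zero hG hG)
    rcases eq_or_ne z 0 with hz0 | hz0
    · rw [show (⟨w, hw⟩ : degreeLE k (D : WithBot ℕ)) = 0 from Subtype.ext (by simp [hz, hz0])]
      exact zero_mem _
    have hzd : z.natDegree = 0 := by
      by_contra h
      have h2 := congrArg (fun s : k[X] => s.coeff (z.natDegree - 1)) hz'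
      simp only [coeff_derivative, coeff_zero] at h2
      rw [show z.natDegree - 1 + 1 = z.natDegree by omega] at h2
      have hwd : w.natDegree ≤ D := natDegree_le_iff_degree_le.2 (mem_degreeLE.1 hw)
      rw [hz, natDegree_mul hG hz0] at hwd
      have h3 : ((z.natDegree - 1 : ℕ) : k) + 1 = (z.natDegree : k) := by
        rw [← Nat.cast_add_one, show z.natDegree - 1 + 1 = z.natDegree by omega]
      rw [h3] at h2
      exact mul_ne_zero (leadingCoeff_ne_zero.2 hz0) (hD _ (by omega) (by omega)) h2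
    refine Submodule.mem_span_singleton.2 ⟨z.coeff 0, Subtype.ext ?_⟩
    simp only [SetLike.val_smul, smul_eq_C_mul]
    rw [← eq_C_of_natDegree_eq_zero hzd, hz, mul_comm]
  have hrange : D ≤ Module.finrank k (LinearMap.range ψ) := by
    have h1 := ψ.finrank_range_add_finrank_ker
    have h2 := (Submodule.finrank_mono hkerψ).trans (finrank_span_le_card _)
    simp at h2
    have h3 : Module.finrank k (degreeLE k (D : WithBot ℕ)) = D + 1 := by
      rw [← Polynomial.degreeLT_succ_eq_degreeLE, (degreeLTEquiv k (D + 1)).finrank_eq,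
        Module.finrank_fin_fun]
    omega
  have heq := Submodule.eq_of_le_of_finrank_le hle (by
    rw [(Submodule.equivMapOfInjective _ (Submodule.injective_subtype _) _).symm.finrank_eq, hker]
    exact hrange)
  have hmem : h ∈ (LinearMap.ker φ).map (degreeLT k (D + g)).subtype :=
    ⟨⟨h, hh⟩, by ext r; simp [φ, sub_eq_zero, hres _ (hroot r)], rfl⟩
  rw [← heq] at hmem
  obtain ⟨⟨w, hw⟩, hw'⟩ := hmem
  exact ⟨w, hw, hw'⟩

end Integrate

end Groth.Agent.Lib.RamP1.Four45
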