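import Groth.Agent.Lib.RamP1.Four45.Count
import Groth.Agent.S13919

/-!
# Four points with an unramified one
-/

set_option autoImplicit false

universe u

open Polynomial W4c1limliniiii

noncomputable section

namespace Groth.Agent.Lib.RamP1.Four45

variable {k : Type u} [Field k] [IsAlgClosed k] (p : ℕ) [CharP k p]

include p in
/-- A non-root of the Wronskian is unramified. -/
theorem hasRamIdx_one {V : Submodule k k[X]} (hrk : Module.finrank k V = 2) {F G : k[X]} (hF : F ∈ V)
    (hG : G ∈ V) (hw : wronskian F G ≠ 0) {t : k} (hbp : ∃ s ∈ V, s.eval t ≠ 0)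
    (ht : (wronskian F G).eval t ≠ 0) : HasRamIdx V t 1 := by
  refine (Three.hasRamIdx_of_wronskian (p := p) hrk hbp hF hG hw (e := 1) ?_ ?_).1
  · rw [rootMultiplicity_eq_zero (by simpa using ht)]
  · rcases CharP.char_is_prime_or_zero k p with h | h
    · exact Or.inr (by simpa using h.pos)
    · exact Or.inl h

theorem ramMaps_eq_singleton {d : ℕ} {P : Fin 4 → k} {e : Fin 4 → ℕ} (hP : Function.Injective P)
    (h2 : ∀ i : Fin 3, 2 ≤ e i.castSucc) (hed : ∀ i : Fin 3, e i.castSucc ≤ d) (he3 : e 3 = 1)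
    (hsum : e 0 + e 1 + e 2 = 2 * d + 1) (hp : p = 0 ∨ d < p) :
    ∃ V, ramMaps d P e = {V} := by
  have hadm : Admissible p d (e ∘ Fin.castSucc) := by
    refine ⟨fun i => ⟨h2 i, hed i, fun hdvd => ?_⟩, ?_⟩
    · have := h2 i; have := hed i
      simp only [Function.comp_apply] at hdvd
      rcases hp with rfl | hp
      · have := Nat.eq_zero_of_zero_dvd hdvd; omega
      · have := Nat.le_of_dvd (by omega) hdvd; omega
    · rw [Fin.sum_univ_three]
      change e 0 + e 1 + e 2 + 2 = 2 * d + 3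
      omega
  have hPi : Function.Injective (P ∘ Fin.castSucc) := hP.comp (Fin.castSucc_injective 3)
  obtain ⟨V, hV⟩ :=
    (Groth.Agent.S13919.result k p d (P ∘ Fin.castSucc) hPi (e ∘ Fin.castSucc) hadm).2 hp
  refine ⟨V, Set.eq_singleton_iff_unique_mem.2 ⟨?_, fun W hW => ?_⟩⟩
  · obtain ⟨hpen, hsep, hram⟩ : V ∈ ramMaps d (P ∘ Fin.castSucc) (e ∘ Fin.castSucc) := hV ▸ rfl
    refine ⟨hpen, hsep, fun i => ?_⟩
    induction i using Fin.lastCases with
    | cast i => exact hram i
    | last =>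
      change HasRamIdx V (P 3) (e 3)
      rw [he3]
      obtain ⟨s, t, rfl, hind⟩ := Three.exists_pair hpen.2.1
      have hs := Three.natDegree_le_of_mem hpen.1 (Submodule.subset_span (Set.mem_insert _ _))
      have ht := Three.natDegree_le_of_mem (s := t) hpen.1 (Submodule.subset_span (by simp))
      have hw : wronskian s t ≠ 0 := Basic.wronskian_ne_zero hsep
      have hdvd : Basic.W0 (P ∘ Fin.castSucc) (e ∘ Fin.castSucc) ∣ wronskian s t :=
        Basic.W0_dvd hPi fun j => by
          obtain ⟨⟨u, hu, hu0, hue⟩, -⟩ := hram j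
          obtain ⟨x, y, rfl⟩ := Basic.mem_span_pair_C.1 hu
          refine Three.pow_dvd_wronskian_of_member ?_ ((le_rootMultiplicity_iff hu0).1 hue)
          by_contra! h
          exact hu0 (by rw [h.1, h.2]; simp)
      have hd1 : 1 ≤ d := by have := h2 0; have := hed 0; omega
      have hdeg : (wronskian s t).natDegree ≤ 2 * d - 2 := by
        have := Three.natDegree_wronskian_le' hs ht; omega
      obtain ⟨u, hu⟩ := hdvd
      have hu0 : u ≠ 0 := fun h => hw (by rw [hu, h, mul_zero])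
      have hW0 : (Basic.W0 (P ∘ Fin.castSucc) (e ∘ Fin.castSucc)).natDegree = 2 * d - 2 := by
        rw [Basic.natDegree_W0, Fin.sum_univ_three]
        change e 0 - 1 + (e 1 - 1) + (e 2 - 1) = _
        have := h2 0; have := h2 1; have := h2 2
        simp at *
        omega
      rw [hu, (Basic.W0_monic _ _).natDegree_mul' hu0, hW0] at hdeg
      obtain ⟨c, rfl⟩ : ∃ c, C c = u := natDegree_eq_zero.1 (by omega)
      refine hasRamIdx_one p hpen.2.1 (Submodule.subset_span (Set.mem_insert _ _))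
        (Submodule.subset_span (by simp)) hw (hpen.2.2.2 _) ?_
      rw [hu, eval_mul, Basic.W0, eval_prod, eval_C]
      refine mul_ne_zero (Finset.prod_ne_zero_iff.2 fun j _ => ?_) fun h => hu0 (by rw [h, map_zero])
      simp only [eval_pow, eval_sub, eval_X, eval_C, Function.comp_apply]
      refine pow_ne_zero _ (sub_ne_zero.2 fun h => ?_)
      have := hP h
      rw [Fin.ext_iff] at this
      have := j.2
      simp at *
      omega
  · have hW' : W ∈ ramMaps d (P ∘ Fin.castSucc) (e ∘ Fin.castSucc) := ⟨hW.1, hW.2.1, fun i => hW.2.2 _⟩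
    rw [hV] at hW'
    exact hW'

theorem ramMaps_two {D : ℕ} {P : Fin 4 → k} {e : Fin 4 → ℕ} (hP : Function.Injective P) (hD : 1 ≤ D)
    (he0 : e 0 = D) (he1 : e 1 = D) (he2 : e 2 = 1) (he3 : e 3 = 1) (hp : p = 0 ∨ D < p) :
    ∃ V, ramMaps D P e = {V} := by
  set A := (X - C (P 0)) ^ D with hA
  set B := (X - C (P 1)) ^ D with hB
  have h01 : P 0 ≠ P 1 := fun h => absurd (hP h) (by decide)
  have hAd : A.natDegree = D := by rw [hA, natDegree_pow, natDegree_X_sub_C, mul_one]
  have hBd : B.natDegree = D := by rw [hB, natDegree_pow, natDegree_X_sub_C, mul_one]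
  have hW : wronskian A B = C ((D : k) * (P 1 - P 0)) * ((X - C (P 0)) ^ (D - 1) * (X - C (P 1)) ^ (D - 1)) := by
    obtain ⟨j, rfl⟩ : ∃ j, D = j + 1 := ⟨D - 1, by omega⟩
    rw [hA, hB, wronskian, derivative_pow_succ, derivative_pow_succ, derivative_X_sub_C, derivative_X_sub_C,
      Nat.add_sub_cancel, pow_succ, pow_succ, map_mul, map_sub]
    push_cast
    ring
  have hDk : (D : k) ≠ 0 := fun h => by
    rw [CharP.cast_eq_zero_iff k p] at h
    rcases hp with rfl | hp
    · have := Nat.eq_zero_of_zero_dvd h; omega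
    · have := Nat.le_of_dvd (by omega) h; omega
  have hev : ∀ t, t ≠ P 0 → t ≠ P 1 → (wronskian A B).eval t ≠ 0 := by
    intro t h0 h1
    rw [hW]
    simp [hDk, sub_ne_zero.2 h01.symm, sub_ne_zero.2 h0, sub_ne_zero.2 h1]
  have hw : wronskian A B ≠ 0 := by
    rw [hW]
    exact mul_ne_zero (C_ne_zero.2 (mul_ne_zero hDk (sub_ne_zero.2 h01.symm)))
      (mul_ne_zero (pow_ne_zero _ (X_sub_C_ne_zero _)) (pow_ne_zero _ (X_sub_C_ne_zero _)))
  have hbp : ∀ t, A.eval t ≠ 0 ∨ B.eval t ≠ 0 := by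
    intro t
    by_cases h : t = P 0
    · right; simp [hB, h, sub_ne_zero.2 h01]
    · left; simp [hA, sub_ne_zero.2 h]
  have hle : Submodule.span k {A, B} ≤ degreeLE k (D : WithBot ℕ) := Submodule.span_le.2 (by
    rintro _ (rfl | rfl) <;> refine mem_degreeLE.2 (natDegree_le_iff_degree_le.1 ?_)
    exacts [hAd.le, hBd.le])
  have hrk : Module.finrank k (Submodule.span k {A, B}) = 2 := by
    have hli : LinearIndependent k ![A, B] := LinearIndependent.pair_iff.2 fun x y h => by
      rw [smul_eq_C_mul, smul_eq_C_mul] at h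
      have e1 : wronskian (C x * A + C y * B) B = C x * wronskian A B := by
        simp only [wronskian, derivative_add, derivative_C_mul]; ring
      have e2 : wronskian A (C x * A + C y * B) = C y * wronskian A B := by
        simp only [wronskian, derivative_add, derivative_C_mul]; ring
      rw [h, wronskian_zero_left] at e1
      rw [h, wronskian_zero_right] at e2
      exact ⟨by simpa using (mul_eq_zero.1 e1.symm).resolve_right hw,
        by simpa using (mul_eq_zero.1 e2.symm).resolve_right hw⟩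
    rw [← Matrix.range_cons_cons_empty A B ![], finrank_span_eq_card hli]
    simp
  have hAm : A ∈ Submodule.span k {A, B} := Submodule.subset_span (by simp)
  have hBm : B ∈ Submodule.span k {A, B} := Submodule.subset_span (by simp)
  have hbp' : ∀ t, ∃ s ∈ Submodule.span k {A, B}, s.eval t ≠ 0 := fun t =>
    (hbp t).elim (fun h => ⟨A, hAm, h⟩) fun h => ⟨B, hBm, h⟩
  have hmem : ∀ (a : k) (W : Submodule k k[X]), W ≤ degreeLE k (D : WithBot ℕ) →
      (∃ s ∈ W, s ≠ 0 ∧ D ≤ s.rootMultiplicity a) → (X - C a) ^ D ∈ W := by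
    rintro a W hWle ⟨s, hs, hs0, hse⟩
    obtain ⟨z, hz⟩ := (le_rootMultiplicity_iff hs0).1 hse
    have hz0 : z ≠ 0 := fun h => hs0 (by rw [hz, h, mul_zero])
    have hsd := Three.natDegree_le_of_mem hWle hs
    rw [hz, natDegree_mul (pow_ne_zero _ (X_sub_C_ne_zero a)) hz0, natDegree_pow, natDegree_X_sub_C] at hsd
    obtain ⟨c, rfl⟩ : ∃ c, C c = z := natDegree_eq_zero.1 (by omega)
    have hc : c ≠ 0 := fun h => hz0 (by rw [h, map_zero])
    have h1 : c⁻¹ • s = (X - C a) ^ D := by
      rw [hz, smul_eq_C_mul, mul_left_comm, ← map_mul, inv_mul_cancel₀ hc, map_one, mul_one]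
    exact h1 ▸ W.smul_mem _ hs
  refine ⟨Submodule.span k {A, B}, Set.eq_singleton_iff_unique_mem.2 ⟨?_, fun W hWm => ?_⟩⟩
  · refine ⟨⟨hle, hrk, ⟨A, hAm, hAd⟩, hbp'⟩, ⟨A, hAm, B, hBm, hw⟩, fun i => ?_⟩
    have hfull : ∀ (a c : k) (F : k[X]), F = (X - C a) ^ D → F ∈ Submodule.span k {A, B} →
        HasRamIdx (Submodule.span k {A, B}) a D := by
      intro a c F hF hFm
      have hF0 : F ≠ 0 := hF ▸ pow_ne_zero _ (X_sub_C_ne_zero a)
      refine ⟨⟨F, hFm, hF0, (le_rootMultiplicity_iff hF0).2 (hF ▸ dvd_rfl)⟩, fun s hs hs0 => ?_⟩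
      exact (natDegree_le_of_dvd ((le_rootMultiplicity_iff hs0).1 le_rfl) hs0).trans
        (Three.natDegree_le_of_mem hle hs) |> (by simpa [natDegree_pow] using ·)
    fin_cases i
    · exact he0 ▸ hfull _ 0 A hA hAm
    · exact he1 ▸ hfull _ 0 B hB hBm
    · exact he2 ▸ hasRamIdx_one p hrk hAm hBm hw (hbp' _)
        (hev _ (fun h => absurd (hP h) (by decide)) (fun h => absurd (hP h) (by decide)))
    · exact he3 ▸ hasRamIdx_one p hrk hAm hBm hw (hbp' _)
        (hev _ (fun h => absurd (hP h) (by decide)) (fun h => absurd (hP h) (by decide)))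
  · obtain ⟨⟨hWle, hWrk, -, -⟩, -, hram⟩ := hWm
    have : FiniteDimensional k W := FiniteDimensional.of_finrank_pos (by omega)
    refine (Submodule.eq_of_le_of_finrank_le (Submodule.span_le.2 ?_) ?_).symm
    · rintro _ (rfl | rfl)
      · exact hmem _ W hWle (he0 ▸ (hram 0).1)
      · exact hmem _ W hWle (he1 ▸ (hram 1).1)
    · rw [hWrk, hrk]

end Groth.Agent.Lib.RamP1.Four45
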