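import Groth.Agent.Lib.RamP1.Four45.Heun

/-!
# The pencils with four ramification points are the roots of a continuant
-/

set_option autoImplicit false

universe u

open Polynomial W4c1limliniiii

noncomputable section

namespace Groth.Agent.Lib.RamP1.Four45

variable {k : Type u} [Field k]

theorem eq_C_of_derivative_eq_zero {p D : ℕ} [CharP k p] (hp : p = 0 ∨ D < p) {z : k[X]}
    (hd : z.natDegree ≤ D) (hz : derivative z = 0) : z = C (z.coeff 0) := by
  refine eq_C_of_natDegree_eq_zero ?_
  by_contra h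
  have h2 := congrArg (fun s : k[X] => s.coeff (z.natDegree - 1)) hz
  simp only [coeff_derivative, coeff_zero] at h2
  have h3 : ((z.natDegree - 1 : ℕ) : k) + 1 = (z.natDegree : k) := by
    rw [← Nat.cast_add_one, show z.natDegree - 1 + 1 = z.natDegree by omega]
  rw [show z.natDegree - 1 + 1 = z.natDegree by omega, h3] at h2
  refine mul_ne_zero (leadingCoeff_ne_zero.2 fun h0 => h (by simp [h0])) (fun h4 => ?_) h2
  rw [CharP.cast_eq_zero_iff k p] at h4
  rcases hp with rfl | hp
  · exact h (Nat.eq_zero_of_zero_dvd h4)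
  · have := Nat.le_of_dvd (by omega) h4
    omega

/-- Two independent polynomials of degree below the characteristic have non-zero Wronskian. -/
theorem wronskian_ne_zero_of_indep {p D : ℕ} [CharP k p] (hp : p = 0 ∨ D < p) {F G : k[X]}
    (hF : F.natDegree ≤ D) (hG : G.natDegree ≤ D)
    (hind : ∀ x y : k, C x * F + C y * G = 0 → x = 0 ∧ y = 0) : wronskian F G ≠ 0 := by
  intro h
  have hF0 : F ≠ 0 := fun h0 => one_ne_zero (hind 1 0 (by simp [h0])).1
  obtain ⟨F', G', g, hrel, rfl, rfl⟩ := UniqueFactorizationMonoid.exists_reduced_factors F hF0 G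
  have hg : g ≠ 0 := left_ne_zero_of_mul hF0
  have h1 : g ^ 2 * wronskian F' G' = 0 := by
    rw [← h]; simp only [wronskian, derivative_mul]; ring
  obtain ⟨hF', hG'⟩ := (IsRelPrime.isCoprime hrel).wronskian_eq_zero_iff.1
    ((mul_eq_zero.1 h1).resolve_left (pow_ne_zero _ hg))
  have hFd : F'.natDegree ≤ D := by
    rw [natDegree_mul hg (right_ne_zero_of_mul hF0)] at hF; omega
  have hGd : G'.natDegree ≤ D := by
    rcases eq_or_ne G' 0 with h0 | h0
    · simp [h0]
    · rw [natDegree_mul hg h0] at hG; omega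
  have h2 := eq_C_of_derivative_eq_zero hp hFd hF'
  have h3 := eq_C_of_derivative_eq_zero hp hGd hG'
  have h4 : F'.coeff 0 ≠ 0 := fun h0 => right_ne_zero_of_mul hF0 (by rw [h2, h0, map_zero])
  refine h4 ?_
  have := (hind (G'.coeff 0) (-(F'.coeff 0)) (by
    rw [map_neg]; linear_combination g * C (G'.coeff 0) * h2 - g * C (F'.coeff 0) * h3)).2
  exact neg_eq_zero.1 this

namespace Par

variable (σ : Par) (lam : k)

/-- The normalised pencils. -/
def maps : Set (Submodule k k[X]) :=
  {V | V ≤ degreeLE k (σ.d : WithBot ℕ) ∧ Module.finrank k V = 2 ∧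
    (∃ s ∈ V, s ≠ 0 ∧ X ^ σ.a ∣ s) ∧ (∃ s ∈ V, s ≠ 0 ∧ (X - C lam) ^ σ.b ∣ s) ∧
    (∃ s ∈ V, s ≠ 0 ∧ (X - C 1) ^ σ.c ∣ s) ∧ (∃ s ∈ V, s ≠ 0 ∧ s.natDegree ≤ σ.m) ∧
    ∀ r : k, ∃ s ∈ V, s.eval r ≠ 0}

/-- The polynomial kernel of the Heun operator. -/
def Ker (q : k) : Submodule k k[X] := degreeLE k (σ.d : WithBot ℕ) ⊓ LinearMap.ker (σ.L lam q)

theorem mem_Ker {q : k} {y : k[X]} : y ∈ σ.Ker lam q ↔ y.natDegree ≤ σ.d ∧ σ.L lam q y = 0 := by
  rw [Ker, Submodule.mem_inf, mem_degreeLE, LinearMap.mem_ker, natDegree_le_iff_degree_le]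

theorem L_sub (q q' : k) (y : k[X]) : σ.L lam q y - σ.L lam q' y = C (q' - q) * y := by
  simp only [L_apply, map_sub]; ring

/-- Coefficients of the polynomials in the invariant subspace. -/
def S : Submodule k k[X] where
  carrier := {y | ∀ n, (n < σ.N ∨ σ.m < n) → y.coeff n = 0}
  add_mem' {x y} hx hy n hn := by simp [hx n hn, hy n hn]
  zero_mem' n hn := by simp
  smul_mem' c y hy n hn := by simp [hy n hn]

def U (n : ℕ) : k := ∏ j ∈ Finset.range n, σ.uN lam j

/-- The head of the solution. -/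
def head (q : k) : k[X] := ∑ n ∈ Finset.range σ.N, C (σ.pi lam q n / σ.U lam n) * X ^ n

theorem coeff_head (q : k) (n : ℕ) :
    (σ.head lam q).coeff n = if n < σ.N then σ.pi lam q n / σ.U lam n else 0 := by
  simp [head, coeff_X_pow]

theorem coeff_mul_U {q : k} {y : k[X]} (hy : σ.L lam q y = 0) :
    ∀ n, σ.U lam n * y.coeff n = σ.pi lam q n * y.coeff 0
  | 0 => by simp [U, pi]
  | 1 => by
    have h := congrArg (fun s : k[X] => s.coeff 0) hy
    simp only [coeff_L_zero, coeff_zero] at h
    simp [U, pi]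
    linear_combination h
  | n + 2 => by
    have h1 := coeff_mul_U hy (n + 1)
    have h0 := coeff_mul_U hy n
    have h := congrArg (fun s : k[X] => s.coeff (n + 1)) hy
    simp only [coeff_L_succ, coeff_zero] at h
    simp only [U, Finset.prod_range_succ, pi] at h0 h1 ⊢
    linear_combination ((∏ j ∈ Finset.range n, σ.uN lam j) * σ.uN lam n) * h +
      (q - σ.cN lam (n + 1)) * h1 - σ.wS n * σ.uN lam n * h0

variable {σ} {p : ℕ} [CharP k p] (hσ : σ.Ok) (hp : p = 0 ∨ σ.d < p) (hlam : lam ≠ 0) (hlam1 : lam ≠ 1)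

include hσ in
theorem one_le_N : 1 ≤ σ.N := by
  have := hσ.ha; unfold N; omega

omit [CharP k p] in
include hσ in
theorem L_mem_S {q : k} {y : k[X]} (hy : y ∈ S (k := k) σ) : σ.L lam q y ∈ S (k := k) σ := by
  intro n hn
  have hN := one_le_N hσ
  have hNm : σ.N ≤ σ.m + 1 := min_le_right _ _
  have hu : ∀ j, j + 1 = σ.N → σ.uN lam j * y.coeff (j + 1) = 0 := by
    intro j hj
    rcases le_or_gt σ.a σ.m with h | h
    · have : (j : k) + 1 = σ.a := by
        rw [← Nat.cast_add_one]; congr 1; unfold N at hj; omega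
      simp [uN, this]
    · rw [hy (j + 1) (Or.inr (by unfold N at hj; omega)), mul_zero]
  rcases n with - | n
  · have h1 : σ.uN lam 0 * y.coeff 1 = 0 := by
      rcases Nat.lt_or_ge 1 σ.N with h | h
      · rw [hy 1 (Or.inl h), mul_zero]
      · exact hu 0 (by omega)
    rw [coeff_L_zero, h1, hy 0 (Or.inl hN)]; simp
  · rcases hn with hn | hn
    · have h1 : σ.uN lam (n + 1) * y.coeff (n + 2) = 0 := by
        rcases Nat.lt_or_ge (n + 2) σ.N with h | h
        · rw [hy (n + 2) (Or.inl h), mul_zero]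
        · exact hu (n + 1) (by omega)
      rw [coeff_L_succ, h1, hy (n + 1) (Or.inl hn), hy n (Or.inl (by omega))]; simp
    · rw [coeff_L_succ, hy (n + 2) (Or.inr (by omega)), hy (n + 1) (Or.inr hn)]
      rcases Nat.lt_or_ge σ.m n with h | h
      · rw [hy n (Or.inr h)]; simp
      · simp [wS, show n = σ.m by omega]

include hσ hp hlam in
theorem U_ne_zero {n : ℕ} (hn : n < σ.N) : σ.U lam n ≠ 0 :=
  Finset.prod_ne_zero_iff.2 fun j hj => uN_ne_zero lam hσ hp hlam (by
    rw [Finset.mem_range] at hj; unfold N at hn; omega)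

include hσ hp hlam in
theorem L_head_mem {q : k} (hq : σ.pi lam q σ.N = 0) : σ.L lam q (σ.head lam q) ∈ S (k := k) σ := by
  intro n hn
  have hN := one_le_N hσ
  have hNm : σ.N ≤ σ.m + 1 := min_le_right _ _
  rcases n with - | n
  · rw [coeff_L_zero, coeff_head, coeff_head, if_pos (show 0 < σ.N from hN)]
    by_cases h : 1 < σ.N
    · have := U_ne_zero lam hσ hp hlam h
      rw [if_pos h]
      simp [U, pi] at this ⊢
      field_simp
      ring
    · rw [show σ.N = 1 by omega] at hq
      rw [if_neg h]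
      simp [U, pi] at hq ⊢
      linear_combination -hq
  · rcases hn with hn | hn
    · have h0 := U_ne_zero lam hσ hp hlam (show n < σ.N by omega)
      have h1 := U_ne_zero lam hσ hp hlam hn
      rw [coeff_L_succ, coeff_head, coeff_head, coeff_head, if_pos hn, if_pos (show n < σ.N by omega)]
      by_cases h : n + 2 < σ.N
      · have h2 := U_ne_zero lam hσ hp hlam h
        rw [if_pos h]
        simp only [U, Finset.prod_range_succ, mul_ne_zero_iff] at h0 h1 h2 ⊢
        obtain ⟨-, hu⟩ := h1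
        obtain ⟨-, hu'⟩ := h2
        simp only [pi]
        field_simp
        ring
      · rw [show σ.N = n + 2 by omega] at hq
        rw [if_neg h]
        simp only [U, Finset.prod_range_succ, mul_ne_zero_iff] at h0 h1 ⊢
        obtain ⟨-, hu⟩ := h1
        simp only [pi] at hq
        field_simp
        linear_combination -hq
    · rw [coeff_L_succ, coeff_head, coeff_head, coeff_head, if_neg (show ¬ n + 2 < σ.N by omega),
        if_neg (show ¬ n + 1 < σ.N by omega)]
      by_cases h : n < σ.N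
      · simp [wS, show n = σ.m by omega]
      · simp [h]

include hσ in
omit [CharP k p] in
theorem eval_W {r : k} (hr : (σ.W lam).eval r = 0) : r = 0 ∨ r = lam ∨ r = 1 := by
  have := hσ.ha; have := hσ.hb; have := hσ.hc
  simp [W, sub_eq_zero] at hr
  tauto

include hlam hlam1 in
omit [CharP k p] in
theorem rootMultiplicity_W :
    (σ.W lam).rootMultiplicity 0 = σ.a - 1 ∧ (σ.W lam).rootMultiplicity lam = σ.b - 1 ∧
      (σ.W lam).rootMultiplicity 1 = σ.c - 1 := by
  have hX : (X : k[X]) ^ (σ.a - 1) = (X - C 0) ^ (σ.a - 1) := by simp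
  have h0 : ∀ r : k, ∀ j : ℕ, (X - C r) ^ j ≠ 0 := fun r j => pow_ne_zero _ (X_sub_C_ne_zero r)
  have key : ∀ (r r' : k) (j : ℕ), r ≠ r' → ((X - C r') ^ j).rootMultiplicity r = 0 := fun r r' j h =>
    rootMultiplicity_eq_zero (by simp [sub_ne_zero.2 h])
  rw [W, hX]
  refine ⟨?_, ?_, ?_⟩ <;>
    rw [rootMultiplicity_mul (mul_ne_zero (mul_ne_zero (h0 _ _) (h0 _ _)) (h0 _ _)),
      rootMultiplicity_mul (mul_ne_zero (h0 _ _) (h0 _ _))]
  · rw [key _ _ _ hlam.symm, key _ _ _ (zero_ne_one' k), rootMultiplicity_X_sub_C_pow]; omega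
  · rw [key _ _ _ hlam, key _ _ _ hlam1, rootMultiplicity_X_sub_C_pow]; omega
  · rw [key _ _ _ one_ne_zero, key _ _ _ hlam1.symm, rootMultiplicity_X_sub_C_pow]; omega

include hσ hp hlam hlam1 in
theorem span_mem_maps [IsAlgClosed k] {G F : k[X]} (hGd : G.natDegree ≤ σ.m) (hFd : F.natDegree ≤ σ.d)
    (hW : wronskian G F = σ.W lam) (h0 : G.eval 0 ≠ 0 ∨ F.eval 0 ≠ 0) (h1 : G.eval 1 ≠ 0)
    (hl : G.eval lam ≠ 0) : Submodule.span k {G, F} ∈ maps σ lam := by
  have hw : wronskian G F ≠ 0 := hW ▸ (hσ.W_monic lam).ne_zero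
  have hGm : G ∈ Submodule.span k {G, F} := Submodule.subset_span (by simp)
  have hFm : F ∈ Submodule.span k {G, F} := Submodule.subset_span (by simp)
  have hG0 : G ≠ 0 := fun h => h1 (by simp [h])
  have hrk : Module.finrank k (Submodule.span k {G, F}) = 2 := by
    have hli : LinearIndependent k ![G, F] := LinearIndependent.pair_iff.2 fun x y h => by
      rw [smul_eq_C_mul, smul_eq_C_mul] at h
      have e1 : wronskian (C x * G + C y * F) F = C x * wronskian G F := by
        simp only [wronskian, derivative_add, derivative_C_mul]; ring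
      have e2 : wronskian G (C x * G + C y * F) = C y * wronskian G F := by
        simp only [wronskian, derivative_add, derivative_C_mul]; ring
      rw [h, wronskian_zero_left] at e1
      rw [h, wronskian_zero_right] at e2
      exact ⟨by simpa using (mul_eq_zero.1 e1.symm).resolve_right hw,
        by simpa using (mul_eq_zero.1 e2.symm).resolve_right hw⟩
    rw [← Matrix.range_cons_cons_empty G F ![], finrank_span_eq_card hli]
    simp
  obtain ⟨r0, r1, r2⟩ := rootMultiplicity_W lam (σ := σ) hlam hlam1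
  have hram : ∀ (r : k) (e : ℕ), (σ.W lam).rootMultiplicity r = e - 1 → 2 ≤ e → e ≤ σ.d →
      (G.eval r ≠ 0 ∨ F.eval r ≠ 0) → ∃ s ∈ Submodule.span k {G, F}, s ≠ 0 ∧ (X - C r) ^ e ∣ s := by
    intro r e hm he hed hbp
    obtain ⟨⟨⟨s, hs, hs0, hle⟩, -⟩, -⟩ := Three.hasRamIdx_of_wronskian (p := p) hrk
      (hbp.elim (fun h => ⟨G, hGm, h⟩) fun h => ⟨F, hFm, h⟩) hGm hFm hw (e := e)
      (by rw [hW, hm]; omega) (hp.imp id fun h => by omega)
    exact ⟨s, hs, hs0, (le_rootMultiplicity_iff hs0).1 hle⟩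
  refine ⟨Submodule.span_le.2 ?_, hrk, ?_, hram lam σ.b r1 hσ.hb hσ.hbd (Or.inl hl),
    hram 1 σ.c r2 hσ.hc hσ.hcd (Or.inl h1), ⟨G, hGm, hG0, hGd⟩, fun r => ?_⟩
  · rintro _ (rfl | rfl) <;> refine mem_degreeLE.2 (natDegree_le_iff_degree_le.1 ?_)
    exacts [hGd.trans hσ.hmd.le, hFd]
  · simpa using hram 0 σ.a r0 hσ.ha hσ.had h0
  · by_cases hG : G.eval r = 0
    · refine ⟨F, hFm, fun hF => ?_⟩
      have hWr : (σ.W lam).eval r = 0 := by rw [← hW]; simp [wronskian, hG, hF]
      rcases eval_W lam hσ hWr with rfl | rfl | rfl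
      · exact h0.elim (fun h => h hG) (fun h => h hF)
      · exact hl hG
      · exact h1 hG
    · exact ⟨G, hGm, hG⟩

include hσ hp hlam hlam1 in
/-- A normalised pencil is the kernel of `L q` for a root `q` of the continuant. -/
theorem exists_param [IsAlgClosed k]
    (hsep : ∀ V ∈ maps σ lam, ∀ s ∈ V, s.eval 0 = 0 → s.natDegree ≤ σ.m → s = 0)
    {V : Submodule k k[X]} (hV : V ∈ maps σ lam) : ∃ q, σ.pi lam q σ.N = 0 ∧ V = σ.Ker lam q := by
  have hsepV := hsep V hV
  obtain ⟨hle, hrk, hma, hmb, hmc, ⟨G, hG, hG0, hGd⟩, hbp⟩ := hV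
  obtain ⟨F, hF, hspan, hind⟩ : ∃ F ∈ V, V = Submodule.span k {F, G} ∧
      ∀ x y : k, C x * F + C y * G = 0 → x = 0 ∧ y = 0 := by
    obtain ⟨F, hF, hFn⟩ : ∃ F ∈ V, F ∉ Submodule.span k {G} := by
      by_contra! h
      have := Submodule.finrank_mono (show V ≤ Submodule.span k {G} from h)
      rw [hrk, finrank_span_singleton hG0] at this
      omega
    have hind : ∀ x y : k, C x * F + C y * G = 0 → x = 0 ∧ y = 0 := by
      intro x y h
      by_cases hx : x = 0
      · subst hx
        simp at h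
        exact ⟨rfl, h.resolve_right hG0⟩
      · refine absurd (Submodule.mem_span_singleton.2 ⟨-(y / x), ?_⟩) hFn
        rw [smul_eq_C_mul]
        refine mul_left_cancel₀ (C_ne_zero.2 hx) ?_
        rw [← mul_assoc, ← map_mul, show x * -(y / x) = -y by field_simp, map_neg]
        linear_combination -h
    have : FiniteDimensional k V := FiniteDimensional.of_finrank_pos (by omega)
    refine ⟨F, hF, (Submodule.eq_of_le_of_finrank_le (Submodule.span_le.2 ?_) ?_).symm, hind⟩
    · rintro _ (rfl | rfl)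
      exacts [hF, hG]
    · have hli : LinearIndependent k ![F, G] := LinearIndependent.pair_iff.2 fun x y h =>
        hind x y (by simpa [smul_eq_C_mul] using h)
      rw [hrk, ← Matrix.range_cons_cons_empty F G ![], finrank_span_eq_card hli]
      simp
  have hFd : F.natDegree ≤ σ.d := Three.natDegree_le_of_mem hle hF
  have hmd := hσ.hmd
  have hw : wronskian F G ≠ 0 := wronskian_ne_zero_of_indep hp hFd (by omega) hind
  have hmem : ∀ {r : k} {e : ℕ}, (∃ s ∈ V, s ≠ 0 ∧ (X - C r) ^ e ∣ s) →
      (X - C r) ^ (e - 1) ∣ wronskian F G := by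
    rintro r e ⟨s, hs, hs0, hd⟩
    rw [hspan, Basic.mem_span_pair_C] at hs
    obtain ⟨x, y, rfl⟩ := hs
    refine Three.pow_dvd_wronskian_of_member ?_ hd
    by_contra! h
    exact hs0 (by rw [h.1, h.2]; simp)
  have hdvd : σ.W lam ∣ wronskian F G := by
    have hinj : Function.Injective ![(0 : k), lam, 1] := by
      intro i j; fin_cases i <;> fin_cases j <;> simp [hlam, hlam.symm, hlam1, hlam1.symm]
    have h := Basic.W0_dvd hinj (e := ![σ.a, σ.b, σ.c]) (q := wronskian F G) (by
      intro i; fin_cases i <;> simp only [Fin.isValue]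
      · exact hmem (r := 0) (by simpa using hma)
      · exact hmem hmb
      · exact hmem hmc)
    simpa [Basic.W0, W, Fin.prod_univ_three] using h
  obtain ⟨u, hu⟩ := hdvd
  have hu0 : u ≠ 0 := fun h => hw (by rw [hu, h, mul_zero])
  have hdeg := natDegree_wronskian_lt_add hw
  rw [hu, (hσ.W_monic lam).natDegree_mul' hu0, hσ.natDegree_W] at hdeg
  have hFd' : F.natDegree = σ.d := by omega
  have hGd' : G.natDegree = σ.m := by omega
  obtain ⟨c, rfl⟩ : ∃ c, C c = u := natDegree_eq_zero.1 (by omega)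
  have hc : c ≠ 0 := fun h => hu0 (by rw [h, map_zero])
  have hcop : IsCoprime F G := by
    refine isCoprime_of_dvd _ _ (fun h => hG0 h.2) fun z hz hz0 hzF hzG => ?_
    obtain ⟨r, hr⟩ := IsAlgClosed.exists_root z fun h => hz (isUnit_iff_degree_eq_zero.2 h)
    obtain ⟨s, hs, hsr⟩ := hbp r
    rw [hspan, Basic.mem_span_pair_C] at hs
    obtain ⟨x, y, rfl⟩ := hs
    exact hsr (by simp [eval_eq_zero_of_dvd_of_eval_eq_zero hzF hr, eval_eq_zero_of_dvd_of_eval_eq_zero hzG hr])
  set Q := derivative F * derivative (derivative G) - derivative (derivative F) * derivative G with hQ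
  have hW := hσ.P3_mul_derivative_W lam
  have key : ∀ y : k[X],
      wronskian F G * derivative (derivative y) - derivative (wronskian F G) * derivative y + Q * y = 0 →
      C c * σ.W lam * (P3 lam * derivative (derivative y) + σ.P2 lam * derivative y) +
        P3 lam * Q * y = 0 := by
    intro y hy
    rw [hu] at hy
    simp only [derivative_mul, derivative_C, mul_zero, add_zero] at hy
    linear_combination P3 lam * hy + C c * derivative y * hW
  have hid : ∀ y, y = F ∨ y = G →
      wronskian F G * derivative (derivative y) - derivative (wronskian F G) * derivative y + Q * y = 0 := by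
    rintro y (rfl | rfl) <;> simp only [hQ, wronskian, derivative_sub, derivative_mul] <;> ring
  have hkF := key F (hid F (Or.inl rfl))
  have hkG := key G (hid G (Or.inr rfl))
  obtain ⟨R, hR⟩ : σ.W lam ∣ P3 lam * Q := by
    obtain ⟨x, y, hxy⟩ := hcop
    refine ⟨-C c * (x * (P3 lam * derivative (derivative F) + σ.P2 lam * derivative F) +
      y * (P3 lam * derivative (derivative G) + σ.P2 lam * derivative G)), ?_⟩
    linear_combination x * hkF + y * hkG - P3 lam * Q * hxy
  have hW0 := (hσ.W_monic lam).ne_zero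
  have hRdeg : R.natDegree ≤ 1 := by
    rcases eq_or_ne R 0 with h | h
    · simp [h]
    have hQ0 : Q ≠ 0 := fun h0 => h (by simpa [h0, hW0] using hR)
    have h3 : (P3 lam * Q).natDegree ≤ 3 + Q.natDegree :=
      natDegree_mul_le.trans (Nat.add_le_add_right (by
        refine natDegree_mul_le.trans (add_le_add (natDegree_mul_le.trans (add_le_add natDegree_X.le
          (natDegree_X_sub_C_le 1))) (natDegree_X_sub_C_le lam))) _)
    rw [hR, natDegree_mul hW0 h, hσ.natDegree_W] at h3
    have hFle := natDegree_derivative_le F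
    have hGle := natDegree_derivative_le G
    have hF2 := natDegree_derivative_le (derivative F)
    have hG2 := natDegree_derivative_le (derivative G)
    rcases Nat.lt_or_ge σ.m 1 with hm | hm
    · refine absurd ?_ hQ0
      rw [hQ, derivative_of_natDegree_zero (p := G) (by omega)]; simp
    have h5 : (derivative (derivative F) * derivative G).natDegree + 3 ≤ σ.d + σ.m := by
      have := natDegree_mul_le (p := derivative (derivative F)) (q := derivative G)
      omega
    rcases Nat.lt_or_ge σ.m 2 with hm2 | hm2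
    · rw [hQ, derivative_of_natDegree_zero (p := derivative G) (by omega), mul_zero, zero_sub,
        natDegree_neg] at h3
      omega
    · have h4 : (derivative F * derivative (derivative G)).natDegree + 3 ≤ σ.d + σ.m := by
        have := natDegree_mul_le (p := derivative F) (q := derivative (derivative G))
        omega
      have := natDegree_sub_le (derivative F * derivative (derivative G))
        (derivative (derivative F) * derivative G)
      rw [← hQ] at this
      omega
  obtain ⟨r1, r0, rfl⟩ := exists_eq_X_add_C_of_natDegree_le_one hRdeg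
  set q := -(r0 / c) with hq
  set ε := (σ.d : k) * σ.m - r1 / c with hε
  have heq : ∀ y, C c * σ.W lam * (P3 lam * derivative (derivative y) + σ.P2 lam * derivative y) +
      P3 lam * Q * y = 0 → σ.L lam q y = C ε * (X * y) := by
    intro y hy
    rw [hR] at hy
    refine mul_left_cancel₀ (mul_ne_zero (C_ne_zero.2 hc) hW0) ?_
    have e1 : C c * C (r1 / c) = C r1 := by rw [← map_mul, mul_div_cancel₀ _ hc]
    have e2 : C c * C (r0 / c) = C r0 := by rw [← map_mul, mul_div_cancel₀ _ hc]
    simp only [L_apply, hq, hε, map_sub, map_neg]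
    linear_combination hy + (σ.W lam * X * y) * e1 + (σ.W lam * y) * e2
  have hε0 : ε = 0 := by
    have h := congrArg (fun s : k[X] => s.coeff (σ.d + 1)) (heq F hkF)
    simp only [coeff_L_succ, coeff_C_mul, coeff_X_mul] at h
    rw [coeff_eq_zero_of_natDegree_lt (n := σ.d + 2) (by omega),
      coeff_eq_zero_of_natDegree_lt (n := σ.d + 1) (by omega)] at h
    have h2 : F.coeff σ.d ≠ 0 := by
      rw [← hFd', coeff_natDegree]
      exact leadingCoeff_ne_zero.2 fun h0 => one_ne_zero (hind 1 0 (by simp [h0])).1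
    simpa [wS, h2] using h
  have hLF : σ.L lam q F = 0 := by rw [heq F hkF, hε0]; simp
  have hLG : σ.L lam q G = 0 := by rw [heq G hkG, hε0]; simp
  refine ⟨q, ?_, ?_⟩
  · have h := coeff_mul_U σ lam hLG σ.N
    have hN : σ.U lam σ.N * G.coeff σ.N = 0 := by
      rcases le_or_gt σ.a σ.m with h | h
      · have hN : σ.N = (σ.a - 1) + 1 := by have := hσ.ha; unfold N; omega
        rw [hN, U, Finset.prod_range_succ, uN, Nat.cast_sub (by linarith [hσ.ha] : 1 ≤ σ.a)]
        simp
      · rw [coeff_eq_zero_of_natDegree_lt (n := σ.N) (by unfold N; omega), mul_zero]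
    rw [hN] at h
    refine (mul_eq_zero.1 h.symm).resolve_right fun h0 => hG0 (hsepV G hG ?_ hGd)
    rwa [← coeff_zero_eq_eval_zero]
  · obtain ⟨hfin, hle2⟩ := finrank_le_two lam q hσ hp (V := σ.Ker lam q) fun y hy => (mem_Ker σ lam).1 hy
    refine Submodule.eq_of_le_of_finrank_le ?_ (hle2.trans hrk.ge)
    rw [hspan, Submodule.span_le]
    rintro _ (rfl | rfl)
    exacts [(mem_Ker σ lam).2 ⟨hFd, hLF⟩, (mem_Ker σ lam).2 ⟨by omega, hLG⟩]

include hσ hp hlam hlam1 in
/-- The tail system is non-singular when no pencil identifies `0` and `∞`. -/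
theorem injective_tail [IsAlgClosed k]
    (hsep : ∀ V ∈ maps σ lam, ∀ s ∈ V, s.eval 0 = 0 → s.natDegree ≤ σ.m → s = 0)
    {q : k} (hq : σ.pi lam q σ.N = 0) {H : k[X]} (hH : H ∈ S (k := k) σ) (hLH : σ.L lam q H = 0) :
    H = 0 := by
  by_contra hH0
  have hmd := hσ.hmd
  have hN := one_le_N hσ
  have hHd : H.natDegree ≤ σ.m := natDegree_le_iff_coeff_eq_zero.2 fun j hj => hH j (Or.inr hj)
  have hHe : H.eval 0 = 0 := by rw [← coeff_zero_eq_eval_zero]; exact hH 0 (Or.inl hN)
  obtain ⟨H1, hH1, hH1d⟩ := exists_eq_pow_rootMultiplicity_mul_and_not_dvd H hH0 (0 : k)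
  have hH1e : H1.eval 0 ≠ 0 := fun h => hH1d (dvd_iff_isRoot.2 h)
  have hj : H.rootMultiplicity 0 = σ.a := by
    refine (order_singular lam q hp hLH (hHd.trans hmd.le) (r := 0) (S := (X - C 1) * (X - C lam))
      (by simp [P3, mul_assoc]) (by simp [hlam]) hσ.had (by simp [P2]) hH1 hH1e).resolve_left fun h => ?_
    rw [hH1, h] at hHe
    simp at hHe
    exact hH1e hHe
  rw [hj, map_zero, sub_zero] at hH1
  have hH10 : H1 ≠ 0 := fun h => hH0 (by rw [hH1, h, mul_zero])
  have hHdeg : H.natDegree = σ.a + H1.natDegree := by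
    rw [hH1, natDegree_mul (pow_ne_zero _ X_ne_zero) hH10, natDegree_X_pow]
  have ham : σ.a ≤ σ.m := by omega
  have hNa : σ.N = σ.a := by unfold N; omega
  have ha := hσ.ha
  obtain ⟨i, hi⟩ : ∃ i, σ.a = i + 1 := ⟨σ.a - 1, by omega⟩
  -- the local solution and its Wronskian
  set y := σ.head lam q with hy
  have hyd : y.natDegree ≤ σ.a - 1 := natDegree_le_iff_coeff_eq_zero.2 fun j hj => by
    rw [hy, coeff_head, if_neg (by omega)]
  have hy0 : y.eval 0 = 1 := by
    rw [← coeff_zero_eq_eval_zero, hy, coeff_head, if_pos (by omega : 0 < σ.N)]; simp [U, pi]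
  set h := wronskian H y with hh
  have hdh : X ^ (2 * σ.a) ∣ P3 lam * derivative h + σ.P2 lam * h := by
    have h1 : P3 lam * derivative h + σ.P2 lam * h = H * σ.L lam q y - y * σ.L lam q H := by
      simp only [hh, L_apply, wronskian, derivative_sub, derivative_mul]; ring
    rw [h1, hLH, mul_zero, sub_zero, hH1, two_mul, pow_add]
    refine mul_dvd_mul (dvd_mul_right _ _) (X_pow_dvd_iff.2 fun j hj => ?_)
    exact L_head_mem lam hσ hp hlam hq j (Or.inl (by omega))
  set W1 := (X - C lam) ^ (σ.b - 1) * (X - C 1) ^ (σ.c - 1) with hW1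
  have hW1e : W1.eval 0 ≠ 0 := by simp [hW1, hlam]
  have hWf : σ.W lam = X ^ i * W1 := by rw [W, hW1, hi, Nat.add_sub_cancel, mul_assoc]
  set h0 := X * H1 * derivative y - (C ((i : k) + 1) * H1 + X * derivative H1) * y with hh0
  have hhf : h = X ^ i * h0 := by
    have hd := derivative_factor (0 : k) i H1
    simp only [map_zero, sub_zero] at hd
    rw [hh, wronskian, hH1, hi, hd, hh0, pow_succ]; ring
  set κ := h0.eval 0 / W1.eval 0 with hκ
  have hκ0 : κ ≠ 0 := by
    refine div_ne_zero ?_ hW1e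
    simp [hh0, hy0, hH1e]
    intro h
    exact absurd (cast_inj_small (σ := σ) hp (i := i + 1) (j := 0) (by have := hσ.had; omega) (by omega)
      (by push_cast; exact h)) (by omega)
  set r := h - C κ * σ.W lam with hr
  have hXr : ∀ j, σ.a ≤ j → j ≤ 2 * σ.a → X ^ j ∣ r := by
    intro j hj
    induction j, hj using Nat.le_induction with
    | base =>
      intro _
      rw [hr, hhf, hWf, hi, pow_succ, show X ^ i * h0 - C κ * (X ^ i * W1) = X ^ i * (h0 - C κ * W1) by ring]
      refine mul_dvd_mul_left _ (X_dvd_iff.2 ?_)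
      rw [coeff_zero_eq_eval_zero]
      simp [hκ, div_mul_cancel₀ _ hW1e]
    | succ j hj ih =>
      intro hj2
      obtain ⟨z, hz⟩ := ih (by omega)
      obtain ⟨l, rfl⟩ : ∃ l, j = l + 1 := ⟨j - 1, by omega⟩
      rw [hz, pow_succ _ (l + 1)]
      refine mul_dvd_mul_left _ (X_dvd_iff.2 ?_)
      rw [coeff_zero_eq_eval_zero]
      have h1 : P3 lam * derivative r + σ.P2 lam * r =
          X ^ (l + 1) * (((X - C 1) * (X - C lam)) * (C ((l : k) + 1) * z + X * derivative z) +
            σ.P2 lam * z) := by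
        have hd := derivative_factor (0 : k) l z
        simp only [map_zero, sub_zero] at hd
        rw [hz, hd, pow_succ]; simp only [P3]; ring
      have h2 : X ^ (l + 1) * X ∣ P3 lam * derivative r + σ.P2 lam * r := by
        rw [← pow_succ]
        refine (pow_dvd_pow _ hj2).trans ?_
        have h3 : P3 lam * derivative r + σ.P2 lam * r = P3 lam * derivative h + σ.P2 lam * h := by
          rw [hr]; simp only [derivative_sub, derivative_C_mul]
          linear_combination (-C κ) * hσ.P3_mul_derivative_W lam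
        rw [h3]; exact hdh
      rw [h1, mul_dvd_mul_iff_left (pow_ne_zero _ X_ne_zero), X_dvd_iff, coeff_zero_eq_eval_zero] at h2
      simp [P2] at h2
      refine (mul_eq_zero.1 (?_ : lam * ((l : k) + 1 + 1 - σ.a) * z.eval 0 = 0)).resolve_left
        (mul_ne_zero hlam fun h4 => ?_)
      · linear_combination h2
      · have := cast_inj_small (σ := σ) hp (i := l + 2 - σ.a) (j := 0) (by have := hσ.had; omega) (by omega)
          (show ((l + 2 - σ.a : ℕ) : k) = ((0 : ℕ) : k) by
            rw [Nat.cast_sub (by omega)]; push_cast; linear_combination h4)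
        omega
  obtain ⟨r2, hr2⟩ := hXr (2 * σ.a) (by omega) le_rfl
  -- degrees
  have hhd : h.natDegree ≤ σ.d + σ.m - 1 := by
    rcases eq_or_ne h 0 with h1 | h1
    · simp [h1]
    · have : h.natDegree < H.natDegree + y.natDegree := natDegree_wronskian_lt_add h1
      have := hσ.had
      omega
  have hrd : r.natDegree ≤ σ.d + σ.m - 1 := by
    refine (natDegree_sub_le _ _).trans (max_le hhd ((natDegree_C_mul_le _ _).trans ?_))
    rw [hσ.natDegree_W]
  set h2 := C (-κ⁻¹) * r2 with hh2
  have hh2mem : h2 ∈ degreeLT k (σ.d - σ.a + H1.natDegree) := by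
    rw [hh2, mem_degreeLT]
    rcases eq_or_ne r2 0 with h1 | h1
    · simp [h1]
    · refine degree_le_natDegree.trans_lt (Nat.cast_lt.2 (lt_of_le_of_lt (natDegree_C_mul_le _ _) ?_))
      rw [hr2, natDegree_mul (pow_ne_zero _ X_ne_zero) h1, natDegree_X_pow] at hrd
      have := hσ.had
      have hHm : H.natDegree = σ.m := by
        by_contra hne
        exact hH0 (eq_zero_of_coeff lam q hσ hp hLH (hHd.trans hmd.le)
          (coeff_eq_zero_of_natDegree_lt (by omega)) (coeff_eq_zero_of_natDegree_lt (by omega)))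
      omega
  obtain ⟨he1, hel⟩ := eval_ne_zero_of_le lam q hσ hp hlam hlam1 hLH hHd hH0
  have hroot : ∀ x, H1.eval x = 0 → (P3 lam).eval x ≠ 0 ∧ H.eval x = 0 ∧ x ≠ 0 := by
    intro x hx
    have hHx : H.eval x = 0 := by simp [hH1, hx]
    have hx0 : x ≠ 0 := fun h => hH1e (h ▸ hx)
    refine ⟨?_, hHx, hx0⟩
    have h1 : x ≠ 1 := fun h => he1 (h ▸ hHx)
    have h2 : x ≠ lam := fun h => hel (h ▸ hHx)
    simp [P3, hx0, sub_ne_zero.2 h1, sub_ne_zero.2 h2]
  have hdH : derivative H = X ^ i * (C ((i : k) + 1) * H1 + X * derivative H1) := by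
    have hd := derivative_factor (0 : k) i H1
    simp only [map_zero, sub_zero] at hd
    rw [hH1, hi, hd]
  have hsimple : ∀ x, H1.eval x = 0 → (derivative H1).eval x ≠ 0 := by
    intro x hx h1
    obtain ⟨hP, hHx, -⟩ := hroot x hx
    exact root_simple lam q hσ hp hLH (hHd.trans hmd.le) hH0 hP hHx (by simp [hdH, hx, h1])
  have hres : ∀ x, H1.eval x = 0 → (derivative h2).eval x * (derivative H1).eval x =
      h2.eval x * (derivative (derivative H1)).eval x := by
    intro x hx
    obtain ⟨hP, hHx, hx0⟩ := hroot x hx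
    have hWr := residue_W lam q (hσ.P3_mul_derivative_W lam) hLH hP hHx
    have hhr : (derivative h).eval x * (derivative H).eval x =
        h.eval x * (derivative (derivative H)).eval x := by
      simp [hh, wronskian, hHx, derivative_mul]
      ring
    have hrr : (derivative r).eval x * (derivative H).eval x =
        r.eval x * (derivative (derivative H)).eval x := by
      simp [hr, derivative_mul]
      linear_combination hhr - κ * hWr
    obtain ⟨l, hl⟩ : ∃ l, 2 * σ.a = l + 1 := ⟨2 * σ.a - 1, by omega⟩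
    rw [hl] at hr2
    rw [hr2, hdH] at hrr
    simp [hx, derivative_mul, derivative_pow] at hrr
    simp [hh2]
    rw [hi] at hl
    obtain rfl : l = i + i + 1 := by omega
    push_cast at hrr
    obtain ⟨i', rfl⟩ : ∃ i', i = i' + 1 := ⟨i - 1, by omega⟩
    rw [Nat.add_sub_cancel] at hrr
    push_cast at hrr
    refine mul_left_cancel₀ (pow_ne_zero (i' + 1 + (i' + 1) + (i' + 1) + 3) hx0) ?_
    linear_combination κ⁻¹ * hrr
  obtain ⟨w, hw, hwW⟩ := exists_wronskian_eq (D := σ.d - σ.a) (fun j h1 h2 h3 => by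
    have := cast_inj_small (σ := σ) hp (i := j) (j := 0) (by omega) (by omega) (by simpa using h3)
    omega) hH10 hsimple (by omega) hh2mem hres
  set F := C κ⁻¹ * y + X ^ σ.a * w with hF
  have hWF : wronskian H F = σ.W lam := by
    have h1 : wronskian H F = C κ⁻¹ * h + wronskian H (X ^ σ.a * w) := by
      simp only [hF, hh, wronskian, derivative_add, derivative_C_mul]; ring
    have h3 : wronskian H (X ^ σ.a * w) = X ^ (2 * σ.a) * h2 := by
      rw [← hwW, hH1]; simp only [wronskian, derivative_mul]; ring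
    have h4 : C κ⁻¹ * C κ = (1 : k[X]) := by rw [← map_mul, inv_mul_cancel₀ hκ0, map_one]
    rw [h1, h3, hh2, map_neg]
    linear_combination σ.W lam * h4 + C κ⁻¹ * (hr2 : r = _) - C κ⁻¹ * hr
  have hFd : F.natDegree ≤ σ.d := by
    refine (natDegree_add_le _ _).trans (max_le ((natDegree_C_mul_le _ _).trans ?_)
      (natDegree_mul_le.trans ?_))
    · have := hσ.had; omega
    · have hwd := natDegree_le_iff_degree_le.2 (mem_degreeLE.1 hw)
      have := hσ.had
      rw [natDegree_X_pow]; omega
  have hF0 : F.eval 0 ≠ 0 := by simp [hF, hy0, hκ0, zero_pow (show σ.a ≠ 0 by omega)]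
  exact hH0 (hsep _ (span_mem_maps lam hσ hp hlam hlam1 hHd hFd hWF (Or.inr hF0) he1 hel) H
    (Submodule.subset_span (by simp)) hHe hHd)

include hσ hp hlam hlam1 in
theorem Ker_mem_maps [IsAlgClosed k]
    (hsep : ∀ V ∈ maps σ lam, ∀ s ∈ V, s.eval 0 = 0 → s.natDegree ≤ σ.m → s = 0)
    {q : k} (hq : σ.pi lam q σ.N = 0) :
    σ.Ker lam q ∈ maps σ lam ∧ ∃ G ∈ σ.Ker lam q, G ≠ 0 := by
  have hmd := hσ.hmd
  haveI : Module.Finite k (S (k := k) σ) := by
    haveI : Module.Finite k (degreeLT k (σ.m + 1)) := Module.Finite.equiv (degreeLTEquiv k (σ.m + 1)).symm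
    refine Submodule.finiteDimensional_of_le (S₂ := degreeLT k (σ.m + 1)) fun y hy => mem_degreeLT.2 ?_
    exact (degree_lt_iff_coeff_zero _ _).2 fun j hj => hy j (Or.inr (by omega))
  let T : S (k := k) σ →ₗ[k] S (k := k) σ :=
    (σ.L lam q).restrict fun y hy => L_mem_S lam hσ hy
  have hT : Function.Injective T := by
    rw [← LinearMap.ker_eq_bot, Submodule.eq_bot_iff]
    rintro ⟨H, hH⟩ hker
    exact Subtype.ext (injective_tail lam hσ hp hlam hlam1 hsep hq hH (congrArg Subtype.val hker))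
  obtain ⟨⟨t, ht⟩, htT⟩ := LinearMap.injective_iff_surjective.1 hT ⟨_, L_head_mem lam hσ hp hlam hq⟩
  have htL : σ.L lam q t = σ.L lam q (σ.head lam q) := congrArg Subtype.val htT
  set G := σ.head lam q - t with hG
  have hN := one_le_N hσ
  have hNm : σ.N ≤ σ.m + 1 := min_le_right _ _
  have hG0 : G.eval 0 = 1 := by
    rw [← coeff_zero_eq_eval_zero, hG, coeff_sub, coeff_head, if_pos (by omega : 0 < σ.N), ht 0 (Or.inl hN)]
    simp [U, pi]
  have hGne : G ≠ 0 := fun h => by simp [h] at hG0
  have hLG : σ.L lam q G = 0 := by rw [hG, map_sub, htL, sub_self]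
  have hGd : G.natDegree ≤ σ.m := natDegree_le_iff_coeff_eq_zero.2 fun j hj => by
    rw [hG, coeff_sub, coeff_head, if_neg (by omega), ht j (Or.inr hj), sub_zero]
  have hGm : G.natDegree = σ.m := by
    by_contra hne
    exact hGne (eq_zero_of_coeff lam q hσ hp hLG (hGd.trans hmd.le)
      (coeff_eq_zero_of_natDegree_lt (by omega)) (coeff_eq_zero_of_natDegree_lt (by omega)))
  obtain ⟨he1, hel⟩ := eval_ne_zero_of_le lam q hσ hp hlam hlam1 hLG hGd hGne
  have hroot : ∀ x, G.eval x = 0 → (P3 lam).eval x ≠ 0 := by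
    intro x hx
    have h0 : x ≠ 0 := fun h => by simp [h, hG0] at hx
    have h1 : x ≠ 1 := fun h => he1 (h ▸ hx)
    have h2 : x ≠ lam := fun h => hel (h ▸ hx)
    simp [P3, h0, sub_ne_zero.2 h1, sub_ne_zero.2 h2]
  obtain ⟨F, hF, hWF⟩ := exists_wronskian_eq (D := σ.d) (h := σ.W lam) (fun j h1 h2 h3 => by
    have := cast_inj_small (σ := σ) hp (i := j) (j := 0) (by omega) (by omega) (by simpa using h3)
    omega) hGne (fun x hx => root_simple lam q hσ hp hLG (hGd.trans hmd.le) hGne (hroot x hx) hx)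
    (by omega) (mem_degreeLT.2 (degree_le_natDegree.trans_lt (Nat.cast_lt.2 (by rw [hσ.natDegree_W]; omega))))
    (fun x hx => residue_W lam q (hσ.P3_mul_derivative_W lam) hLG (hroot x hx) hx)
  have hmem := span_mem_maps lam hσ hp hlam hlam1 hGd (natDegree_le_iff_degree_le.2 (mem_degreeLE.1 hF)) hWF
    (Or.inl (by simp [hG0])) he1 hel
  obtain ⟨q', -, hV⟩ := exists_param lam hσ hp hlam hlam1 hsep hmem
  have hG' : G ∈ σ.Ker lam q' := hV ▸ Submodule.subset_span (by simp)
  obtain rfl : q = q' := by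
    have h := L_sub σ lam q q' G
    rw [hLG, ((mem_Ker σ lam).1 hG').2, sub_zero] at h
    exact (sub_eq_zero.1 (C_eq_zero.1 ((mul_eq_zero.1 h.symm).resolve_right hGne))).symm
  exact ⟨hV ▸ hmem, G, hG', hGne⟩

include hσ hp hlam hlam1 in
/-- **The count.** -/
theorem maps_card [IsAlgClosed k]
    (hsep : ∀ V ∈ maps σ lam, ∀ s ∈ V, s.eval 0 = 0 → s.natDegree ≤ σ.m → s = 0)
    (hsq : (σ.pi (C lam) (X : k[X]) σ.N).Separable) :
    (maps σ lam).Finite ∧ (maps σ lam).ncard = σ.N := by
  classical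
  set P := σ.pi (C lam) (X : k[X]) σ.N with hP
  obtain ⟨hmon, hdeg⟩ := natDegree_pi_X_aux σ lam σ.N
  have heval : ∀ q, P.eval q = σ.pi lam q σ.N := by
    intro q
    have h := map_pi σ (C lam) (evalRingHom q) X σ.N
    simp only [coe_evalRingHom, eval_C, eval_X] at h
    exact h
  have hroot : ∀ q, q ∈ P.roots.toFinset ↔ σ.pi lam q σ.N = 0 := fun q => by
    rw [Multiset.mem_toFinset, mem_roots hmon.ne_zero, IsRoot.def, heval]
  have himg : maps σ lam = (fun q => σ.Ker lam q) '' (P.roots.toFinset : Set k) := by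
    ext V
    constructor
    · intro hV
      obtain ⟨q, hq, rfl⟩ := exists_param lam hσ hp hlam hlam1 hsep hV
      exact ⟨q, Finset.mem_coe.2 ((hroot q).2 hq), rfl⟩
    · rintro ⟨q, hq, rfl⟩
      exact (Ker_mem_maps lam hσ hp hlam hlam1 hsep ((hroot q).1 hq)).1
  have hinj : Set.InjOn (fun q => σ.Ker lam q) (P.roots.toFinset : Set k) := by
    intro q hq q' hq' h
    obtain ⟨-, G, hG, hG0⟩ := Ker_mem_maps lam hσ hp hlam hlam1 hsep ((hroot q).1 hq)
    have hG' : G ∈ σ.Ker lam q' := by simp only at h; rw [← h]; exact hG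
    have h2 := L_sub σ lam q q' G
    rw [((mem_Ker σ lam).1 hG).2, ((mem_Ker σ lam).1 hG').2, sub_zero] at h2
    exact (sub_eq_zero.1 (C_eq_zero.1 ((mul_eq_zero.1 h2.symm).resolve_right hG0))).symm
  refine ⟨himg ▸ (P.roots.toFinset.finite_toSet.image _), ?_⟩
  rw [himg, hinj.ncard_image, Set.ncard_coe_finset, Multiset.toFinset_card_of_nodup (nodup_roots hsq),
    IsAlgClosed.card_roots_eq_natDegree, hdeg]

end Par

end Groth.Agent.Lib.RamP1.Four45
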